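import Cfsg.Agent.H143.Pw.Cor

/-!
The corner in `SL_5` and `SL_6` (S2465): conjugation into the corner form.
-/

set_option autoImplicit false

namespace Cfsg.Agent.H143.Pw.Cor

open Module Matrix
open Cfsg.Agent.H143.Pw.Lin

universe u

variable {F : Type u} [Field F]

local notation "SL" => Matrix.SpecialLinearGroup

theorem good_conj {n : ℕ} {M P : SL (Fin (n + 2)) F} {c₀ c₁ : Fin (n + 2) → F}
    (h0 : M.1 *ᵥ (P.1 *ᵥ Pi.single 0 1) = P.1 *ᵥ (Pi.single 0 1 + c₀)) (h00 : c₀ 0 = 0) (h01 : c₀ 1 = 0)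
    (h1 : M.1 *ᵥ (P.1 *ᵥ Pi.single 1 1) = P.1 *ᵥ (Pi.single 1 1 + c₁)) (h10 : c₁ 0 = 0) (h11 : c₁ 1 = 0) :
    Good (P⁻¹ * M * P).1 := by
  have hP : ∀ x, (P⁻¹).1 *ᵥ (P.1 *ᵥ x) = x := by
    intro x
    rw [Matrix.mulVec_mulVec, ← Matrix.SpecialLinearGroup.coe_mul, inv_mul_cancel, Matrix.SpecialLinearGroup.coe_one,
      Matrix.one_mulVec]
  have e : ∀ x, (P⁻¹ * M * P).1 *ᵥ x = (P⁻¹).1 *ᵥ (M.1 *ᵥ (P.1 *ᵥ x)) := by
    intro x
    rw [Matrix.mulVec_mulVec, Matrix.mulVec_mulVec]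
    rfl
  have e0 : ∀ i, (P⁻¹ * M * P).1 i 0 = (Pi.single 0 1 + c₀ : Fin (n + 2) → F) i := by
    intro i
    have := congrFun (e (Pi.single 0 1)) i
    rw [h0, hP, Matrix.mulVec_single_one] at this
    exact this
  have e1 : ∀ i, (P⁻¹ * M * P).1 i 1 = (Pi.single 1 1 + c₁ : Fin (n + 2) → F) i := by
    intro i
    have := congrFun (e (Pi.single 1 1)) i
    rw [h1, hP, Matrix.mulVec_single_one] at this
    exact this
  refine ⟨?_, ?_, ?_, ?_⟩
  · rw [e0]; simp [h00]
  · rw [e1]; simp [h10]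
  · rw [e0]; simp [h01]
  · rw [e1]; simp [h11]

theorem good_of_li5 {M : SL (Fin 5) F} {w₁ w₂ : Fin 5 → F}
    (h : LinearIndependent F ![w₁, w₂, M.1 *ᵥ w₁ - w₁, M.1 *ᵥ w₂ - w₂]) : ∃ P : SL (Fin 5) F, Good (P⁻¹ * M * P).1 := by
  obtain ⟨P, hP⟩ := exists_SL (k := 4) (d := 0) h
  have c0 : P.1 *ᵥ Pi.single 0 1 = w₁ := by
    rw [Matrix.mulVec_single_one]; funext j; exact hP 0 j
  have c1 : P.1 *ᵥ Pi.single 1 1 = w₂ := by
    rw [Matrix.mulVec_single_one]; funext j; exact hP 1 j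
  have c2 : P.1 *ᵥ Pi.single 2 1 = M.1 *ᵥ w₁ - w₁ := by
    rw [Matrix.mulVec_single_one]; funext j; exact hP 2 j
  have c3 : P.1 *ᵥ Pi.single 3 1 = M.1 *ᵥ w₂ - w₂ := by
    rw [Matrix.mulVec_single_one]; funext j; exact hP 3 j
  refine ⟨P, good_conj (n := 3) (c₀ := Pi.single 2 1) (c₁ := Pi.single 3 1) ?_ (by simp) (by simp) ?_ (by simp) (by simp)⟩
  · rw [Matrix.mulVec_add]
    erw [c0, c2]
    abel
  · rw [Matrix.mulVec_add]
    erw [c1, c3]
    abel

theorem good_of_li6 {M : SL (Fin 6) F} {w₁ w₂ : Fin 6 → F}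
    (h : LinearIndependent F ![w₁, w₂, M.1 *ᵥ w₁ - w₁, M.1 *ᵥ w₂ - w₂]) : ∃ P : SL (Fin 6) F, Good (P⁻¹ * M * P).1 := by
  obtain ⟨P, hP⟩ := exists_SL (k := 4) (d := 1) h
  have c0 : P.1 *ᵥ Pi.single 0 1 = w₁ := by
    rw [Matrix.mulVec_single_one]; funext j; exact hP 0 j
  have c1 : P.1 *ᵥ Pi.single 1 1 = w₂ := by
    rw [Matrix.mulVec_single_one]; funext j; exact hP 1 j
  have c2 : P.1 *ᵥ Pi.single 2 1 = M.1 *ᵥ w₁ - w₁ := by
    rw [Matrix.mulVec_single_one]; funext j; exact hP 2 j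
  have c3 : P.1 *ᵥ Pi.single 3 1 = M.1 *ᵥ w₂ - w₂ := by
    rw [Matrix.mulVec_single_one]; funext j; exact hP 3 j
  refine ⟨P, good_conj (n := 4) (c₀ := Pi.single 2 1) (c₁ := Pi.single 3 1) ?_ (by simp) (by simp) ?_ (by simp) (by simp)⟩
  · rw [Matrix.mulVec_add]
    erw [c0, c2]
    abel
  · rw [Matrix.mulVec_add]
    erw [c1, c3]
    abel

/-- rank at most one -/
theorem good_of_rank_one {M : SL (Fin 6) F} {z : Fin 6 → F} (h : ∀ x, ∃ a : F, M.1 *ᵥ x - x = a • z) :
    ∃ P : SL (Fin 6) F, Good (P⁻¹ * M * P).1 := by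
  by_cases hz : z = 0
  · refine ⟨1, ?_⟩
    have hM : ∀ x, M.1 *ᵥ x = x := by
      intro x
      obtain ⟨a, ha⟩ := h x
      rw [hz, smul_zero, sub_eq_zero] at ha
      exact ha
    refine good_conj (n := 4) (c₀ := 0) (c₁ := 0) ?_ rfl rfl ?_ rfl rfl
    · rw [hM, add_zero]
    · rw [hM, add_zero]
  · have h1 : LinearIndependent F ![z] := by
      rw [Fintype.linearIndependent_iff]
      intro g hg i
      rw [Fin.sum_univ_one] at hg
      rw [Subsingleton.elim i 0]
      rcases smul_eq_zero.1 hg with h2 | h2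
      · exact h2
      · exact absurd h2 hz
    obtain ⟨B, hB⟩ := exists_basis_ext (k := 1) (m := 5) (by simp) ![z] h1
    have h2 : LinearIndependent F ![B (Sum.inr 0), B (Sum.inr 1), z] := by
      have h3 := B.linearIndependent.comp (![Sum.inr 0, Sum.inr 1, Sum.inl 0] : Fin 3 → Fin 1 ⊕ Fin 5) (by decide)
      have h4 : (B ∘ (![Sum.inr 0, Sum.inr 1, Sum.inl 0] : Fin 3 → Fin 1 ⊕ Fin 5)) = ![B (Sum.inr 0), B (Sum.inr 1), z] := by
        funext i
        fin_cases i
        · rfl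
        · rfl
        · exact hB 0
      rwa [h4] at h3
    obtain ⟨P, hP⟩ := exists_SL (k := 3) (d := 2) h2
    have c0 : P.1 *ᵥ Pi.single 0 1 = B (Sum.inr 0) := by
      rw [Matrix.mulVec_single_one]; funext j; exact hP 0 j
    have c1 : P.1 *ᵥ Pi.single 1 1 = B (Sum.inr 1) := by
      rw [Matrix.mulVec_single_one]; funext j; exact hP 1 j
    have c2 : P.1 *ᵥ Pi.single 2 1 = z := by
      rw [Matrix.mulVec_single_one]; funext j; exact hP 2 j
    obtain ⟨a, ha⟩ := h (B (Sum.inr 0))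
    obtain ⟨b, hb⟩ := h (B (Sum.inr 1))
    refine ⟨P, good_conj (n := 4) (c₀ := a • Pi.single 2 1) (c₁ := b • Pi.single 2 1) ?_ (by simp) (by simp) ?_ (by simp)
      (by simp)⟩
    · rw [Matrix.mulVec_add, Matrix.mulVec_smul]
      erw [c0, c2]
      rw [← ha]
      abel
    · rw [Matrix.mulVec_add, Matrix.mulVec_smul]
      erw [c1, c2]
      rw [← hb]
      abel

/-! ### The other case -/

/-- the special form -/
def M0 (F : Type u) [Field F] : Matrix (Fin 6) (Fin 6) F := -(1 + single 0 1 1)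

/-- `-1` plus a map of rank at most one -/
theorem bad_form {M : SL (Fin 6) F} (hM : M.1 ≠ -1) {z : Fin 6 → F} (h : ∀ x, ∃ a : F, M.1 *ᵥ x + x = a • z) :
    ∃ P : SL (Fin 6) F, (P⁻¹ * M * P).1 = M0 F := by
  -- conjugates
  have hconj : ∀ P : SL (Fin 6) F, ∀ x, (P⁻¹ * M * P).1 *ᵥ x = (P⁻¹).1 *ᵥ (M.1 *ᵥ (P.1 *ᵥ x)) := by
    intro P x
    rw [Matrix.mulVec_mulVec, Matrix.mulVec_mulVec]
    rfl
  have hPP : ∀ (P : SL (Fin 6) F) x, (P⁻¹).1 *ᵥ (P.1 *ᵥ x) = x := by
    intro P x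
    rw [Matrix.mulVec_mulVec, ← Matrix.SpecialLinearGroup.coe_mul, inv_mul_cancel, Matrix.SpecialLinearGroup.coe_one,
      Matrix.one_mulVec]
  have hPP' : ∀ (P : SL (Fin 6) F) x, P.1 *ᵥ ((P⁻¹).1 *ᵥ x) = x := by
    intro P x
    rw [Matrix.mulVec_mulVec, ← Matrix.SpecialLinearGroup.coe_mul, mul_inv_cancel, Matrix.SpecialLinearGroup.coe_one,
      Matrix.one_mulVec]
  have hne : ∀ P : SL (Fin 6) F, (P⁻¹ * M * P).1 ≠ -1 := by
    intro P hP
    apply hM
    ext i j
    have h1 : M.1 *ᵥ Pi.single j 1 = - Pi.single j 1 := by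
      have h2 := hconj P ((P⁻¹).1 *ᵥ Pi.single j 1)
      rw [hPP', hP, Matrix.neg_mulVec, Matrix.one_mulVec] at h2
      have h3 := congrArg (fun y => P.1 *ᵥ y) h2
      simp only [Matrix.mulVec_neg, hPP'] at h3
      exact h3.symm
    have h2 := congrFun h1 i
    rw [Matrix.mulVec_single_one] at h2
    rw [Matrix.neg_apply, Matrix.one_apply]
    change M.1 i j = -(if i = j then 1 else 0)
    have h3 : M.1 i j = -(Pi.single j (1 : F) : Fin 6 → F) i := h2
    rw [h3, Pi.single_apply]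
  have hz : z ≠ 0 := by
    rintro rfl
    apply hM
    ext i j
    obtain ⟨a, ha⟩ := h (Pi.single j 1)
    rw [smul_zero, Matrix.mulVec_single_one] at ha
    have h3 := congrFun ha i
    have h4 : M.1 i j = -(Pi.single j (1 : F) : Fin 6 → F) i := eq_neg_of_add_eq_zero_left h3
    rw [h4, Pi.single_apply, Matrix.neg_apply, Matrix.one_apply]
  -- first step
  have h1 : LinearIndependent F ![z] := by
    rw [Fintype.linearIndependent_iff]
    intro g hg i
    rw [Fin.sum_univ_one] at hg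
    rw [Subsingleton.elim i 0]
    rcases smul_eq_zero.1 hg with h2 | h2
    · exact h2
    · exact absurd h2 hz
  obtain ⟨P, hP⟩ := exists_SL (k := 1) (d := 4) h1
  have c0 : P.1 *ᵥ Pi.single 0 1 = z := by
    rw [Matrix.mulVec_single_one]; funext j; exact hP 0 j
  have hrow : ∀ x, ∃ a : F, (P⁻¹ * M * P).1 *ᵥ x + x = a • Pi.single 0 1 := by
    intro x
    obtain ⟨a, ha⟩ := h (P.1 *ᵥ x)
    refine ⟨a, ?_⟩
    have h2 := congrArg (fun y => (P⁻¹).1 *ᵥ y) ha
    simp only [Matrix.mulVec_add, Matrix.mulVec_smul, hPP] at h2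
    rw [hconj, h2, ← c0]
    erw [hPP]
  -- entries
  have ent : ∀ B : SL (Fin 6) F, (∀ x, ∃ a : F, B.1 *ᵥ x + x = a • (Pi.single 0 1 : Fin 6 → F)) →
      ∀ i j, i ≠ 0 → B.1 i j = -(if i = j then 1 else 0) := by
    intro B hB i j hi
    obtain ⟨a, ha⟩ := hB (Pi.single j 1)
    rw [Matrix.mulVec_single_one] at ha
    have h2 := congrFun ha i
    have h3 : B.1 i j + (Pi.single j (1 : F) : Fin 6 → F) i = a * (Pi.single 0 (1 : F) : Fin 6 → F) i := h2
    rw [Pi.single_eq_of_ne hi, mul_zero, Pi.single_apply] at h3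
    exact eq_neg_of_add_eq_zero_left h3
  have ent0 : ∀ B : SL (Fin 6) F, (∀ x, ∃ a : F, B.1 *ᵥ x + x = a • (Pi.single 0 1 : Fin 6 → F)) →
      B.1 0 0 = -1 := by
    intro A hrow
    have hent := ent A hrow
    have hd : A.1.det = ∏ i, A.1 i i := Matrix.det_of_isUpperTriangular (fun i j hij => by
      rw [hent i j (by rintro rfl; exact absurd hij (by simp)), if_neg (by rintro rfl; exact lt_irrefl _ hij), neg_zero])
    rw [A.2, Fin.prod_univ_succ] at hd
    have h2 : ∏ i : Fin 5, A.1 i.succ i.succ = -1 := by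
      rw [Finset.prod_congr rfl (fun i _ => (by rw [hent _ _ (Fin.succ_ne_zero i), if_pos rfl] :
        A.1 i.succ i.succ = -1))]
      rw [Finset.prod_const, Finset.card_univ, Fintype.card_fin]
      norm_num
    rw [h2] at hd
    linear_combination hd
  set A : SL (Fin 6) F := P⁻¹ * M * P with hA
  have hent := ent A hrow
  have h00 := ent0 A hrow
  have hj0 : ∃ j, j ≠ 0 ∧ A.1 0 j ≠ 0 := by
    by_contra hcon
    push Not at hcon
    apply hne P
    ext i j
    rw [Matrix.neg_apply, Matrix.one_apply]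
    by_cases hi : i = 0
    · subst hi
      by_cases hj : j = 0
      · subst hj; rw [← hA, h00, if_pos rfl]
      · rw [← hA, hcon j hj, if_neg (Ne.symm hj), neg_zero]
    · rw [← hA, hent i j hi]
  obtain ⟨j₀, hj0, hj1⟩ := hj0
  -- second step
  set b : Fin 6 → F := Pi.single j₀ (-(A.1 0 j₀)⁻¹) with hb
  have h2 : LinearIndependent F ![(Pi.single 0 1 : Fin 6 → F), b] := by
    rw [LinearIndependent.pair_iff]
    intro s t hst
    have e0 := congrFun hst 0
    have e1 := congrFun hst j₀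
    simp only [hb, Pi.add_apply, Pi.smul_apply, smul_eq_mul, Pi.single_eq_same, Pi.single_eq_of_ne hj0,
      Pi.single_eq_of_ne (Ne.symm hj0), mul_one, mul_zero, add_zero, zero_add, Pi.zero_apply] at e0 e1
    refine ⟨e0, ?_⟩
    rcases mul_eq_zero.1 e1 with h3 | h3
    · exact h3
    · exact absurd (neg_eq_zero.1 h3) (inv_ne_zero hj1)
  obtain ⟨Q', hQ⟩ := exists_SL (k := 2) (d := 3) h2
  let Q : SL (Fin 6) F := Q'
  have q0 : Q.1 *ᵥ (Pi.single 0 1 : Fin 6 → F) = (Pi.single 0 1 : Fin 6 → F) := by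
    rw [Matrix.mulVec_single_one]; funext j; exact hQ 0 j
  have q1 : Q.1 *ᵥ (Pi.single 1 1 : Fin 6 → F) = b := by
    rw [Matrix.mulVec_single_one]; funext j; exact hQ 1 j
  have qi0 : (Q⁻¹).1 *ᵥ (Pi.single 0 1 : Fin 6 → F) = Pi.single 0 1 := by
    conv_lhs => rw [← q0]
    exact hPP Q _
  have qi1 : (Q⁻¹).1 *ᵥ b = Pi.single 1 1 := by
    rw [← q1]
    exact hPP Q _
  have hconjA : ∀ x, (Q⁻¹ * A * Q).1 *ᵥ x = (Q⁻¹).1 *ᵥ (A.1 *ᵥ (Q.1 *ᵥ x)) := by
    intro x
    rw [Matrix.mulVec_mulVec, Matrix.mulVec_mulVec]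
    rfl
  have hrow' : ∀ x, ∃ a : F, (Q⁻¹ * A * Q).1 *ᵥ x + x = a • (Pi.single 0 1 : Fin 6 → F) := by
    intro x
    obtain ⟨a, ha⟩ := hrow (Q.1 *ᵥ x)
    refine ⟨a, ?_⟩
    have h2 := congrArg (fun y => (Q⁻¹).1 *ᵥ y) ha
    simp only [Matrix.mulVec_add, Matrix.mulVec_smul, hPP] at h2
    rw [hconjA, h2]
    erw [qi0]
  set A' : SL (Fin 6) F := Q⁻¹ * A * Q with hA'
  have hent' := ent A' hrow'
  have h00' := ent0 A' hrow'
  have h01' : A'.1 0 1 = -1 := by
    have h3 : A.1 *ᵥ b = -(Pi.single 0 1) - b := by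
      funext i
      rw [hb, Matrix.mulVec_single, Pi.sub_apply, Pi.neg_apply]
      change A.1 i j₀ * (-(A.1 0 j₀)⁻¹) = _
      by_cases hi : i = 0
      · subst hi
        rw [Pi.single_eq_same, Pi.single_eq_of_ne (Ne.symm hj0), sub_zero, mul_neg, mul_inv_cancel₀ hj1]
      · rw [hent i j₀ hi, Pi.single_eq_of_ne hi, neg_zero, zero_sub]
        by_cases hij : i = j₀
        · subst hij
          rw [if_pos rfl, Pi.single_eq_same]
          ring
        · rw [if_neg hij, Pi.single_eq_of_ne hij]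
          ring
    have h4 := hconjA (Pi.single 1 1)
    rw [q1, h3, Matrix.mulVec_sub, Matrix.mulVec_neg, qi1, qi0, Matrix.mulVec_single_one] at h4
    have h5 := congrFun h4 0
    have h6 : A'.1 0 1 = -(Pi.single 0 (1 : F) : Fin 6 → F) 0 - (Pi.single 1 (1 : F) : Fin 6 → F) 0 := h5
    rw [h6, Pi.single_eq_same, Pi.single_eq_of_ne (by decide), sub_zero]
  -- third step
  let Rm : Matrix (Fin 6) (Fin 6) F := Matrix.of fun i j => if i = j then 1 else if i = 1 ∧ 2 ≤ j.val then A'.1 0 j else 0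
  have hRd : Rm.det = 1 := by
    rw [Matrix.det_of_isUpperTriangular]
    · refine Finset.prod_eq_one fun i _ => ?_
      simp [Rm]
    · intro i j hij
      have h3 : ¬ i = j := by rintro rfl; exact lt_irrefl _ hij
      have h4 : ¬ (i = 1 ∧ 2 ≤ j.val) := by
        rintro ⟨rfl, h5⟩
        have h6 : j < (1 : Fin 6) := hij
        rw [Fin.lt_def] at h6
        have : ((1 : Fin 6) : ℕ) = 1 := rfl
        omega
      simp [Rm, h3, h4]
  let R : SL (Fin 6) F := ⟨Rm, hRd⟩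
  have hAR : A'.1 * Rm = Rm * M0 F := by
    have e : ∀ i j, i ≠ 0 → A'.1 i j = -(if i = j then 1 else 0) := hent'
    ext i j
    rw [Matrix.mul_apply, Matrix.mul_apply, Fin.sum_univ_six, Fin.sum_univ_six]
    by_cases hi : i = 0
    · subst hi
      rw [h00', h01']
      fin_cases j <;> simp [Rm, M0, Matrix.single_apply, Matrix.one_apply]
    · rw [e i 0 hi, e i 1 hi, e i 2 hi, e i 3 hi, e i 4 hi, e i 5 hi]
      fin_cases i <;> first | exact absurd rfl hi | (fin_cases j <;> simp [Rm, M0, Matrix.single_apply, Matrix.one_apply])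
  refine ⟨P * Q * R, ?_⟩
  have h5 : (P * Q * R)⁻¹ * M * (P * Q * R) = R⁻¹ * A' * R := by
    rw [hA', hA]
    group
  rw [h5]
  have h6 : A' * R = R * (R⁻¹ * A' * R) := by group
  have h7 : (R⁻¹ * A' * R).1 = (R⁻¹).1 * (A'.1 * Rm) := by
    rw [← Matrix.mul_assoc]
    rfl
  rw [h7, hAR, ← Matrix.mul_assoc]
  have h8 : (R⁻¹).1 * Rm = 1 := by
    have := congrArg Subtype.val (inv_mul_cancel R)
    exact this
  rw [h8, Matrix.one_mul]

/-! ### The dichotomy -/

theorem card_two_or_three {F : Type u} [Field F] [Finite F] (hK : Nat.card F = 2 ∨ Nat.card F = 3) :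
    (∀ c : F, c = 0 ∨ c = -1 ∨ (c = 1 ∧ (3 : F) = 0)) := by
  classical
  have := Fintype.ofFinite F
  rw [Nat.card_eq_fintype_card] at hK
  intro c
  have h1 := FiniteField.pow_card c
  have h0 : ((Fintype.card F : ℕ) : F) = 0 := Nat.cast_card_eq_zero F
  rcases hK with hK | hK
  · rw [hK] at h1 h0
    have h2 : c * (c - 1) = 0 := by linear_combination h1
    rcases mul_eq_zero.1 h2 with h3 | h3
    · exact Or.inl h3
    · right; left
      have h4 : (2 : F) = 0 := by exact_mod_cast h0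
      linear_combination h3 + h4
  · rw [hK] at h1 h0
    have h2 : c * ((c + 1) * (c - 1)) = 0 := by linear_combination h1
    rcases mul_eq_zero.1 h2 with h3 | h3
    · exact Or.inl h3
    · rcases mul_eq_zero.1 h3 with h4 | h4
      · right; left
        linear_combination h4
      · right; right
        exact ⟨by linear_combination h4, by exact_mod_cast h0⟩

theorem exists_of_finrank {V : Type*} [AddCommGroup V] [Module F V] [FiniteDimensional F V] {T : V →ₗ[F] V}
    (h : finrank F (LinearMap.range T) < 2) : ∃ z : V, ∀ x, ∃ a : F, T x = a • z := by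
  rcases Nat.lt_or_ge (finrank F (LinearMap.range T)) 1 with h0 | h0
  · have h1 : LinearMap.range T = ⊥ := Submodule.finrank_eq_zero.1 (by omega)
    refine ⟨0, fun x => ⟨0, ?_⟩⟩
    have : T x ∈ LinearMap.range T := ⟨x, rfl⟩
    rw [h1, Submodule.mem_bot] at this
    rw [this, smul_zero]
  · obtain ⟨z, -, hz⟩ := finrank_eq_one_iff'.1 (le_antisymm (by omega) h0)
    refine ⟨z.1, fun x => ?_⟩
    obtain ⟨a, ha⟩ := hz ⟨T x, x, rfl⟩
    exact ⟨a, (congrArg Subtype.val ha).symm⟩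

/-- **The dichotomy.** -/
theorem dich [Finite F] (hK : Nat.card F = 2 ∨ Nat.card F = 3) {M : SL (Fin 6) F} (hM : M.1 ≠ -1) :
    (∃ P : SL (Fin 6) F, Good (P⁻¹ * M * P).1) ∨
      ((3 : F) = 0 ∧ ∃ P : SL (Fin 6) F, (P⁻¹ * M * P).1 = M0 F) := by
  set N : (Fin 6 → F) →ₗ[F] (Fin 6 → F) := M.1.mulVecLin - LinearMap.id with hN
  have hNx : ∀ x, N x = M.1 *ᵥ x - x := fun x => rfl
  by_cases h : ∀ c : F, 2 ≤ finrank F (LinearMap.range (N - c • LinearMap.id))
  · left
    obtain ⟨w₁, w₂, hw⟩ := exists_pair N (by simp) h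
    exact good_of_li6 hw
  · push Not at h
    obtain ⟨c, hc⟩ := h
    obtain ⟨z, hz⟩ := exists_of_finrank hc
    rcases card_two_or_three hK c with h0 | h0 | ⟨h0, h3⟩
    · left
      refine good_of_rank_one (z := z) fun x => ?_
      obtain ⟨a, ha⟩ := hz x
      refine ⟨a, ?_⟩
      rw [← ha, h0, zero_smul, sub_zero, hNx]
    · exfalso
      -- then `M` has rank at most one
      have h2 : ∀ x, ∃ a : F, M.1 *ᵥ x = a • z := by
        intro x
        obtain ⟨a, ha⟩ := hz x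
        refine ⟨a, ?_⟩
        rw [← ha, h0]
        have h5 : (N - (-1 : F) • (LinearMap.id : (Fin 6 → F) →ₗ[F] (Fin 6 → F))) x = N x + x := by simp
        rw [h5, hNx, sub_add_cancel]
      have h3 : ∀ x, M.1 *ᵥ ((M⁻¹).1 *ᵥ x) = x := by
        intro x
        rw [Matrix.mulVec_mulVec, ← Matrix.SpecialLinearGroup.coe_mul, mul_inv_cancel,
          Matrix.SpecialLinearGroup.coe_one, Matrix.one_mulVec]
      have h4 : ∀ x : Fin 6 → F, ∃ a : F, x = a • z := by
        intro x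
        obtain ⟨a, ha⟩ := h2 ((M⁻¹).1 *ᵥ x)
        exact ⟨a, by rw [← ha, h3]⟩
      obtain ⟨a, ha⟩ := h4 (Pi.single 0 1)
      obtain ⟨b, hb⟩ := h4 (Pi.single 1 1)
      have e00 := congrFun ha 0
      have e01 := congrFun ha 1
      have e11 := congrFun hb 1
      simp only [Pi.single_eq_same, Pi.smul_apply, smul_eq_mul] at e00 e11
      rw [Pi.single_eq_of_ne (by decide), Pi.smul_apply, smul_eq_mul] at e01
      have hz1 : z 1 ≠ 0 := fun h5 => by rw [h5, mul_zero] at e11; exact one_ne_zero e11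
      rcases mul_eq_zero.1 e01.symm with h5 | h5
      · rw [h5, zero_mul] at e00
        exact one_ne_zero e00
      · exact hz1 h5
    · right
      refine ⟨h3, bad_form hM (z := z) fun x => ?_⟩
      obtain ⟨a, ha⟩ := hz x
      refine ⟨a, ?_⟩
      rw [← ha, h0, one_smul, LinearMap.sub_apply, hNx, LinearMap.id_apply]
      funext i
      simp only [Pi.add_apply, Pi.sub_apply]
      linear_combination (x i) * h3

/-! ### The second component -/

/-- the matrix of the second component -/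
def MK (a0 a2 a3 b0 b1 b2 b3 : F) : Matrix (Fin 5) (Fin 5) F :=
  !![-1, -1, 0, 0, -(b0 + b1); 0, -1, 0, 0, -b1; 0, 0, -1, 0, -b2; 0, 0, 0, -1, -b3;
    -a0, -a0, -a2, -a3, 1 - (a0 * b0 + a0 * b1 + a2 * b2 + a3 * b3)]

theorem MK_li (h3 : (3 : F) = 0) (a0 a2 a3 b0 b1 b2 b3 : F) : ∃ w₁ w₂ : Fin 5 → F,
    LinearIndependent F ![w₁, w₂, MK a0 a2 a3 b0 b1 b2 b3 *ᵥ w₁ - w₁, MK a0 a2 a3 b0 b1 b2 b3 *ᵥ w₂ - w₂] := by
  have key : ∀ w₁ w₂ : Fin 5 → F, (∀ s t u v : F, (∀ i, s * w₁ i + t * w₂ i +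
      u * ((MK a0 a2 a3 b0 b1 b2 b3 *ᵥ w₁) i - w₁ i) + v * ((MK a0 a2 a3 b0 b1 b2 b3 *ᵥ w₂) i - w₂ i) = 0) →
      s = 0 ∧ t = 0 ∧ u = 0 ∧ v = 0) →
      LinearIndependent F ![w₁, w₂, MK a0 a2 a3 b0 b1 b2 b3 *ᵥ w₁ - w₁, MK a0 a2 a3 b0 b1 b2 b3 *ᵥ w₂ - w₂] := by
    intro w₁ w₂ h
    rw [Fintype.linearIndependent_iff]
    intro g hg
    rw [Fin.sum_univ_four] at hg
    obtain ⟨h0, h1, h2, h3⟩ := h (g 0) (g 1) (g 2) (g 3) (fun i => congrFun hg i)
    intro i
    fin_cases i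
    · exact h0
    · exact h1
    · exact h2
    · exact h3
  have two : ∀ v : F, 2 * v = 0 → v = 0 := fun v hv => by linear_combination v * h3 - hv
  by_cases ha : a2 ≠ 0
  · refine ⟨![0, 1, 0, 0, 0], ![0, 0, 1, 0, 0], key _ _ fun s t u v h => ?_⟩
    have e0 := h 0
    have e1 := h 1
    have e2 := h 2
    have e4 := h 4
    simp [MK, Matrix.mulVec, dotProduct, Fin.sum_univ_five] at e0 e1 e2 e4
    have hu : u = 0 := by simpa using e0
    have hv : a2 * v = 0 := by linear_combination -e4 - a0 * hu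
    have hv' := (mul_eq_zero.1 hv).resolve_left ha
    refine ⟨by linear_combination e1 + 2 * hu, by linear_combination e2 + 2 * hv', hu, hv'⟩
  · by_cases ha' : a3 ≠ 0
    · refine ⟨![0, 1, 0, 0, 0], ![0, 0, 0, 1, 0], key _ _ fun s t u v h => ?_⟩
      have e0 := h 0
      have e1 := h 1
      have e2 := h 3
      have e4 := h 4
      simp [MK, Matrix.mulVec, dotProduct, Fin.sum_univ_five] at e0 e1 e2 e4
      have hu : u = 0 := by simpa using e0
      have hv : a3 * v = 0 := by linear_combination -e4 - a0 * hu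
      have hv' := (mul_eq_zero.1 hv).resolve_left ha'
      refine ⟨by linear_combination e1 + 2 * hu, by linear_combination e2 + 2 * hv', hu, hv'⟩
    · push Not at ha ha'
      subst ha ha'
      by_cases hb : b2 = 0 ∧ b3 = 0
      · obtain ⟨rfl, rfl⟩ := hb
        refine ⟨![0, 1, 1, 0, 0], ![0, 0, 0, 1, 1], key _ _ fun s t u v h => ?_⟩
        have e0 := h 0
        have e1 := h 1
        have e2 := h 2
        have e3 := h 3
        have e4 := h 4
        simp [MK, Matrix.mulVec, dotProduct, Fin.sum_univ_five] at e0 e1 e2 e3 e4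
        have hu : u = -(b0 + b1) * v := by first | linear_combination -e0 | linear_combination e0
        have ht : t = 0 := by linear_combination e4 + a0 * hu
        have hv : v = 0 := two v (by linear_combination ht - e3)
        have hu' : u = 0 := by rw [hu, hv, mul_zero]
        exact ⟨by linear_combination e2 + 2 * hu', ht, hu', hv⟩
      · refine ⟨![0, 1, 0, 0, 0], ![0, 0, 0, 0, 1], key _ _ fun s t u v h => ?_⟩
        have e0 := h 0
        have e1 := h 1
        have e2 := h 2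
        have e3 := h 3
        have e4 := h 4
        simp [MK, Matrix.mulVec, dotProduct, Fin.sum_univ_five] at e0 e1 e2 e3 e4
        have hv : v = 0 := by
          by_contra hv
          exact hb ⟨by tauto, by tauto⟩
        subst hv
        have hu : u = 0 := by simpa using e0
        subst hu
        exact ⟨by linear_combination e1, by linear_combination e4, rfl, rfl⟩

end Cfsg.Agent.H143.Pw.Cor
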