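import Cfsg.Agent.H143.Pw.ETab

/-!
The corner in `E₆` (S2465): the groups.
-/

set_option autoImplicit false
set_option linter.unusedSectionVars false

namespace Cfsg.Agent.H143.Pw.ESix

open CoxeterSystem Cfsg.Agent.ChevalleyStructure.CoxeterGeom Cfsg.Agent.Tits.Roots Cfsg.Agent.Tits.Core
  Cfsg.Agent.Nodes.Reps Cfsg.Agent.Nodes.BNOf Cfsg.Agent.Nodes.RGDLib Cfsg.Agent.Nodes.Bruhat
  Cfsg.Agent.Nodes.OppDec Cfsg.Agent.Nodes.LeviDec Cfsg.Agent.Nodes.KindChev Cfsg.Agent.Nodes.ChevCls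
  Cfsg.Agent.Nodes.StabComb
  Cfsg.Agent.OddHalf.NI.ModelChev
  Cfsg.Agent.H162.GaussDec Cfsg.Agent.H162.GaussLevi Cfsg.Agent.H162.GaussSL
  Cfsg.Agent.H162.GaussMain Cfsg.Agent.H162.GaussPQ Cfsg.Agent.H162.GaussExc
open Cfsg.Lie Cfsg.Agent.ChevalleyStructure Cfsg.Agent.ChevalleyStructure.Elts
  Cfsg.Agent.ChevalleyStructure.RootVec Cfsg.Agent.ChevalleyStructure.NPerm
  Cfsg.Agent.ChevalleyStructure.CoxeterGeomTypes Cfsg.Agent.Nodes.RGDChev Cfsg.Agent.KFacts.RgdChevCoord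
open Cfsg.Agent.TitsThree.KExcRT Cfsg.Agent.AGraded
open Cfsg.Agent.H162.GaussPSL (embf embf_tv)
open Cfsg.Agent.H143.Pw.Cor

universe u

variable {K : Type u} [Field K]

local notation "SLn" => Matrix.SpecialLinearGroup
local notation "tvn" => Matrix.SpecialLinearGroup.transvection

/-! ### The doublet -/

/-- the linear form -/
abbrev gf (x : Fin 6 → ℤ) : ℤ := -x 0 - x 1 - x 3 + 2 * x 4 - 2 * x 5

/-- the roots of the radical outside the doublet -/
abbrev PN (x : Fin 6 → ℤ) : Prop := x 1 < 0 ∧ 0 < gf x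

theorem SP_normalizer [Finite K] {x : Fin 6 → ℤ} (hx : IsRoot cs hp.isCartan x) (h1 : x 1 ≤ 0) (h2 : gf x = 0) :
    XX chevE6 6 K x ≤ Subgroup.normalizer (SP K PN : Set ↥(chevE6.group K)) := by
  obtain ⟨p, hpc⟩ := CharP.exists K
  have : Fact p.Prime := ⟨(CharP.char_is_prime_or_zero K p).resolve_right (CharP.char_ne_zero_of_finite K p)⟩
  have R := rgd (K := K) hp cs p
  refine R.le_normalizer hx fun y hy => ⟨hy.1, Or.inr ⟨?_, fun z hz => ?_⟩⟩
  · rintro rfl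
    have := hy.2.1
    simp only [Pi.neg_apply] at h1
    omega
  · obtain ⟨hr, m, a, b, hm, ha, hb, e⟩ := hz
    have e1 := congrFun e 1
    have ec : ∀ i, m * z i = a * x i + b * y i := fun i => by
      have := congrFun e i
      simpa only [Pi.add_apply, Pi.smul_apply, smul_eq_mul] using this
    refine ⟨hr, ?_, ?_⟩
    · have h3 : m * z 1 < 0 := by
        rw [ec 1]
        have := mul_neg_of_pos_of_neg hb hy.2.1
        have h4 : a * x 1 ≤ 0 := mul_nonpos_of_nonneg_of_nonpos ha.le h1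
        omega
      by_contra hcon
      exact absurd (mul_nonneg hm.le (not_lt.1 hcon)) (not_le.2 h3)
    · have h3 : m * gf z = b * gf y := by
        have : m * gf z = a * gf x + b * gf y := by
          simp only [gf]
          linear_combination -ec 0 - ec 1 - ec 3 + 2 * ec 4 - 2 * ec 5
        rw [this, h2, mul_zero, zero_add]
      have h4 : 0 < m * gf z := by rw [h3]; exact mul_pos hb hy.2.2
      exact pos_of_mul_pos_right h4 hm.le

/-- a matrix of the doublet -/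
def rw3 (c d : K) : SLn (Fin 3) K := ⟨!![1, 0, 0; 0, 1, 0; c, d, 1], by rw [Matrix.det_fin_three]; simp⟩

theorem rw3_mul (c d c' d' : K) : rw3 c d * rw3 c' d' = rw3 (c + c') (d + d') := by
  apply Subtype.ext
  change !![1, 0, 0; 0, 1, 0; c, d, 1] * !![1, 0, 0; 0, 1, 0; c', d', 1] = !![1, 0, 0; 0, 1, 0; c + c', d + d', 1]
  ext i j
  fin_cases i <;> fin_cases j <;> simp [Matrix.mul_apply, Fin.sum_univ_three, add_comm]

theorem rw3_20 (h : (2 : Fin 3) ≠ 0) (c : K) : tvn h c = rw3 c 0 := by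
  apply Subtype.ext
  ext i j
  fin_cases i <;> fin_cases j <;> simp [rw3, Matrix.SpecialLinearGroup.transvection, Matrix.transvection]

theorem rw3_21 (h : (2 : Fin 3) ≠ 1) (c : K) : tvn h c = rw3 0 c := by
  apply Subtype.ext
  ext i j
  fin_cases i <;> fin_cases j <;> simp [rw3, Matrix.SpecialLinearGroup.transvection, Matrix.transvection]

theorem rw3_eq (c d : K) : rw3 c d = tvn (show (2 : Fin 3) ≠ 0 by decide) c * tvn (show (2 : Fin 3) ≠ 1 by decide) d := by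
  rw [rw3_20, rw3_21, rw3_mul, add_zero, zero_add]

theorem tab2a : ∀ q < 72, vec chevE6 6 q 1 < 0 → PN (vec chevE6 6 q) ∨ q = 20 ∨ q = 23 := by decide +kernel

/-- the doublet as a subgroup -/
def Row (φ : SLn (Fin 3) K →* ↥(chevE6.group K)) : Subgroup ↥(chevE6.group K) where
  carrier := {x | ∃ c d, x = φ (rw3 c d)}
  one_mem' := ⟨0, 0, by
    have : rw3 (0 : K) 0 = 1 := by
      apply Subtype.ext
      ext i j
      fin_cases i <;> fin_cases j <;> simp [rw3]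
    rw [this, map_one]⟩
  mul_mem' := by
    rintro _ _ ⟨c, d, rfl⟩ ⟨c', d', rfl⟩
    exact ⟨_, _, by rw [← map_mul, rw3_mul]⟩
  inv_mem' := by
    rintro _ ⟨c, d, rfl⟩
    refine ⟨-c, -d, ?_⟩
    rw [← map_inv]
    congr 1
    rw [inv_eq_iff_mul_eq_one, rw3_mul, add_neg_cancel, add_neg_cancel]
    apply Subtype.ext
    ext i j
    fin_cases i <;> fin_cases j <;> simp [rw3]

theorem nrm_phi2 [Finite K] {φ : SLn (Fin 3) K →* ↥(chevE6.group K)} (hφ : IsBlk a2 φ) {a b : Fin 3} (hab : a ≠ b)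
    (h : vec chevE6 6 (a2 a b) 1 ≤ 0 ∧ gf (vec chevE6 6 (a2 a b)) = 0) (c : K) :
    φ (tvn hab c) ∈ Subgroup.normalizer (SP K PN : Set ↥(chevE6.group K)) := by
  rw [hφ]
  exact SP_normalizer (isRoot_vec hp _ (rt2.1 a b hab)) h.1 h.2 ((mem_XX hp (rt2.1 a b hab) _).2 ⟨_, rfl⟩)

theorem tab2b : ∀ a b : Fin 3, a ≠ b → b ≠ 2 → vec chevE6 6 (a2 a b) 1 ≤ 0 ∧ gf (vec chevE6 6 (a2 a b)) = 0 := by
  decide +kernel

theorem tab5R : ∀ q < 72, (∃ k, k ∉ J5 ∧ vec chevE6 6 q k < 0) → vec chevE6 6 q 1 < 0 := by decide +kernel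

/-- the elements of the radical -/
theorem exists_row [Finite K] {φ : SLn (Fin 3) K →* ↥(chevE6.group K)} (hφ : IsBlk a2 φ) {w : ↥(chevE6.group K)}
    (hw : w ∈ VNJ cs hp.isCartan (XX chevE6 6 K) {k | k ∈ J5}) :
    ∃ n ∈ SP K PN, ∃ c d : K, w = n * φ (rw3 c d) := by
  rw [VNJ_eq] at hw
  have h1 : SP K (fun x => ∃ k, k ∉ J5 ∧ x k < 0) ≤ SP K PN ⊔ Row φ := by
    refine SP_le fun q hq hP c => ?_
    rcases tab2a q hq (tab5R q hq hP) with h | rfl | rfl
    · exact Subgroup.mem_sup_left (mem_SP hq h c)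
    · refine Subgroup.mem_sup_right ⟨c, 0, ?_⟩
      have := hφ 2 0 (by decide) c
      rw [← rw3_20 (by decide), this]
      rfl
    · refine Subgroup.mem_sup_right ⟨0, c, ?_⟩
      have := hφ 2 1 (by decide) c
      rw [← rw3_21 (by decide), this]
      rfl
  have h2 : Row φ ≤ Subgroup.normalizer (SP K PN : Set ↥(chevE6.group K)) := by
    rintro _ ⟨c, d, rfl⟩
    rw [rw3_eq, map_mul]
    exact mul_mem (nrm_phi2 hφ _ (tab2b _ _ (by decide) (by decide)) _)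
      (nrm_phi2 hφ _ (tab2b _ _ (by decide) (by decide)) _)
  have h3 : w ∈ ((SP K PN ⊔ Row φ : Subgroup ↥(chevE6.group K)) : Set ↥(chevE6.group K)) := h1 hw
  rw [Subgroup.coe_mul_of_right_le_normalizer_left _ _ h2, Set.mem_mul] at h3
  obtain ⟨n, hn, _, ⟨c, d, rfl⟩, e⟩ := h3
  exact ⟨n, hn, c, d, e.symm⟩

/-- the group `SL₂` of the doublet -/
def S2 (K : Type u) [Field K] : Subgroup (SLn (Fin 3) K) :=
  Subgroup.closure {x | ∃ (a b : Fin 3) (h : a ≠ b) (t : K), ((a = 0 ∧ b = 1) ∨ (a = 1 ∧ b = 0)) ∧ x = tvn h t}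

theorem t01_mem (h : (0 : Fin 3) ≠ 1) (t : K) : tvn h t ∈ S2 K :=
  Subgroup.subset_closure ⟨0, 1, h, t, Or.inl ⟨rfl, rfl⟩, rfl⟩

theorem t10_mem (h : (1 : Fin 3) ≠ 0) (t : K) : tvn h t ∈ S2 K :=
  Subgroup.subset_closure ⟨1, 0, h, t, Or.inr ⟨rfl, rfl⟩, rfl⟩

theorem coe_t01 (h : (0 : Fin 3) ≠ 1) (t : K) : (tvn h t).1 = !![1, t, 0; 0, 1, 0; 0, 0, 1] := by
  ext i j
  fin_cases i <;> fin_cases j <;> simp [Matrix.SpecialLinearGroup.transvection, Matrix.transvection]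

theorem coe_t10 (h : (1 : Fin 3) ≠ 0) (t : K) : (tvn h t).1 = !![1, 0, 0; t, 1, 0; 0, 0, 1] := by
  ext i j
  fin_cases i <;> fin_cases j <;> simp [Matrix.SpecialLinearGroup.transvection, Matrix.transvection]

/-- the second coordinate of the doublet can be removed -/
theorem exists_kill (c d : K) : ∃ s ∈ S2 K, ∃ c' : K, s * rw3 c d = rw3 c' 0 * s := by
  have h01 : (0 : Fin 3) ≠ 1 := by decide
  have h10 : (1 : Fin 3) ≠ 0 := by decide
  by_cases hd : d = 0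
  · exact ⟨1, one_mem _, c, by rw [hd, one_mul, mul_one]⟩
  by_cases hc : c = 0
  · -- rotate
    refine ⟨tvn h01 1 * tvn h10 (-1) * tvn h01 1, mul_mem (mul_mem (t01_mem _ _) (t10_mem _ _)) (t01_mem _ _), d, ?_⟩
    apply Subtype.ext
    change (tvn h01 1).1 * (tvn h10 (-1)).1 * (tvn h01 1).1 * !![1, 0, 0; 0, 1, 0; c, d, 1] =
      !![1, 0, 0; 0, 1, 0; d, 0, 1] * ((tvn h01 1).1 * (tvn h10 (-1)).1 * (tvn h01 1).1)
    rw [coe_t01, coe_t10, hc]
    ext i j
    fin_cases i <;> fin_cases j <;> simp [Matrix.mul_apply, Fin.sum_univ_three]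
  · refine ⟨tvn h01 (d / c), t01_mem _ _, c, ?_⟩
    apply Subtype.ext
    change (tvn h01 (d / c)).1 * !![1, 0, 0; 0, 1, 0; c, d, 1] = !![1, 0, 0; 0, 1, 0; c, 0, 1] * (tvn h01 (d / c)).1
    rw [coe_t01]
    ext i j
    fin_cases i <;> fin_cases j <;> simp [Matrix.mul_apply, Fin.sum_univ_three]
    field_simp

end Cfsg.Agent.H143.Pw.ESix
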