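import Cfsg.Agent.H143.Pw.EMat

/-!
# The corner in `E₆(2)` and `E₆(3)` (S2465)

`corner` : every element outside the core is conjugate to `v l u`, `v ∈ V_J⁻`, `u ∈ V_J`, `J = {0, 1, 2, 3, 5}` and `l` in the
group generated by the root groups of the block `{0, 2, 3, 1}` of type `A₄`.
-/

set_option autoImplicit false
set_option linter.unusedSectionVars false

namespace Cfsg.Agent.H143.Pw.ESix

open CoxeterSystem Cfsg.Agent.ChevalleyStructure.CoxeterGeom Cfsg.Agent.Tits.Roots Cfsg.Agent.Tits.Core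
  Cfsg.Agent.Nodes.Reps Cfsg.Agent.Nodes.BNOf Cfsg.Agent.Nodes.RGDLib Cfsg.Agent.Nodes.Bruhat
  Cfsg.Agent.Nodes.OppDec Cfsg.Agent.Nodes.LeviDec Cfsg.Agent.Nodes.KindChev Cfsg.Agent.Nodes.ChevCls
  Cfsg.Agent.Nodes.StabComb
  Cfsg.Agent.OddHalf.NI.ModelChev
  Cfsg.Agent.H162.GaussDec Cfsg.Agent.H162.GaussLevi Cfsg.Agent.H162.GaussSL
  Cfsg.Agent.H162.GaussMain Cfsg.Agent.H162.GaussPQ Cfsg.Agent.H162.GaussExc
open Cfsg.Lie Cfsg.Agent.ChevalleyStructure Cfsg.Agent.ChevalleyStructure.Elts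
  Cfsg.Agent.ChevalleyStructure.RootVec Cfsg.Agent.ChevalleyStructure.NPerm
  Cfsg.Agent.ChevalleyStructure.CoxeterGeomTypes Cfsg.Agent.Nodes.RGDChev Cfsg.Agent.KFacts.RgdChevCoord
open Cfsg.Agent.TitsThree.KExcRT Cfsg.Agent.AGraded
open Cfsg.Agent.TitsThree.KExcBase (comm_nil)
open Cfsg.Agent.H162.GaussPSL (embf embf_tv)
open Cfsg.Agent.H143.Pw.Cor
open Matrix (single)

universe u

variable {K : Type u} [Field K]

local notation "SLn" => Matrix.SpecialLinearGroup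
local notation "tvn" => Matrix.SpecialLinearGroup.transvection

/-! ### The second block -/

set_option synthInstance.maxHeartbeats 200000 in
set_option synthInstance.maxSize 2000 in
theorem tabN' : ∀ q < 72, PN (vec chevE6 6 q) → (∃ k, k ∉ JK ∧ vec chevE6 6 q k < 0) ∨ q ∈ [22, 24, 25] := by
  decide +kernel

theorem tabN (q : ℕ) (hq : q < 72) (h : PN (vec chevE6 6 q)) :
    (∃ k, k ∉ JK ∧ vec chevE6 6 q k < 0) ∨ q = 22 ∨ q = 24 ∨ q = 25 := by
  have := tabN' q hq h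
  simpa using this

set_option synthInstance.maxHeartbeats 200000 in
set_option synthInstance.maxSize 2000 in
theorem tabB' : ∀ q < 72, (∃ k, k ∉ J5 ∧ 0 < vec chevE6 6 q k) → (∃ k, k ∉ JK ∧ 0 < vec chevE6 6 q k) ∨
    q ∈ [49, 48, 47, 46] := by
  decide +kernel

theorem tabB (q : ℕ) (hq : q < 72) (h : ∃ k, k ∉ J5 ∧ 0 < vec chevE6 6 q k) :
    (∃ k, k ∉ JK ∧ 0 < vec chevE6 6 q k) ∨ q = 49 ∨ q = 48 ∨ q = 47 ∨ q = 46 := by
  rcases tabB' q hq h with h | h
  · exact Or.inl h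
  · right
    simpa using h

/-- the rows -/
def Ar (ψ : SLn (Fin 5) K →* ↥(chevE6.group K)) : Subgroup ↥(chevE6.group K) where
  carrier := {x | ∃ a c d, x = ψ (ar a c d)}
  one_mem' := ⟨0, 0, 0, by rw [ar_zero, map_one]⟩
  mul_mem' := by
    rintro _ _ ⟨a, c, d, rfl⟩ ⟨a', c', d', rfl⟩
    exact ⟨_, _, _, by rw [← map_mul, ar_mul]⟩
  inv_mem' := by
    rintro _ ⟨a, c, d, rfl⟩
    refine ⟨-a, -c, -d, ?_⟩
    rw [← map_inv]
    congr 1
    rw [inv_eq_iff_mul_eq_one, ar_mul, add_neg_cancel, add_neg_cancel, add_neg_cancel, ar_zero]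

/-- the columns -/
def Bc (ψ : SLn (Fin 5) K →* ↥(chevE6.group K)) : Subgroup ↥(chevE6.group K) where
  carrier := {x | ∃ a b c d, x = ψ (bc a b c d)}
  one_mem' := ⟨0, 0, 0, 0, by rw [bc_zero, map_one]⟩
  mul_mem' := by
    rintro _ _ ⟨a, b, c, d, rfl⟩ ⟨a', b', c', d', rfl⟩
    exact ⟨_, _, _, _, by rw [← map_mul, bc_mul]⟩
  inv_mem' := by
    rintro _ ⟨a, b, c, d, rfl⟩
    refine ⟨-a, -b, -c, -d, ?_⟩
    rw [← map_inv]
    congr 1
    rw [inv_eq_iff_mul_eq_one, bc_mul, add_neg_cancel, add_neg_cancel, add_neg_cancel, add_neg_cancel, bc_zero]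

theorem phi_LJ {n : ℕ} {r : Fin n → Fin n → ℕ} {J : List (Fin 6)}
    (hr : ∀ a b, a ≠ b → r a b < 72 ∧ ∀ k, k ∉ J → vec chevE6 6 (r a b) k = 0)
    {φ : SLn (Fin n) K →* ↥(chevE6.group K)} (hφ : IsBlk r φ) (A : SLn (Fin n) K) :
    φ A ∈ LJ cs hp.isCartan (TT chevE6 K) (XX chevE6 6 K) {k | k ∈ J} := by
  have h1 : (⊤ : Subgroup (SLn (Fin n) K)) ≤
      (LJ cs hp.isCartan (TT chevE6 K) (XX chevE6 6 K) {k | k ∈ J}).comap φ := by
    rw [← Cfsg.Agent.LieClassical.SLGen.closure_transvections, Subgroup.closure_le]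
    rintro _ ⟨a, b, hab, c, rfl⟩
    change φ _ ∈ LJ cs hp.isCartan (TT chevE6 K) (XX chevE6 6 K) {k | k ∈ J}
    rw [hφ]
    refine X_le_LJ (J := {k | k ∈ J}) (x := vec chevE6 6 (r a b)) ⟨isRoot_vec hp _ (hr a b hab).1, (hr a b hab).2⟩ ?_
    exact (mem_XX hp (hr a b hab).1 _).2 ⟨_, rfl⟩
  exact h1 (Subgroup.mem_top A)

theorem tabJ5 : ∀ a b, a ≠ b → a5 a b < 72 ∧ ∀ k, k ∉ J5 → vec chevE6 6 (a5 a b) k = 0 := by decide +kernel

theorem tabJK : ∀ a b, a ≠ b → a4 a b < 72 ∧ ∀ k, k ∉ JK → vec chevE6 6 (a4 a b) k = 0 := by decide +kernel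

section

variable [Finite K]

/-- the lower part: from the radical of the first block to the second block -/
theorem exists_ar {ψ : SLn (Fin 5) K →* ↥(chevE6.group K)} (hψ : IsBlk a4 ψ) {w : ↥(chevE6.group K)}
    (hw : w ∈ SP K PN ⊔ VNJ cs hp.isCartan (XX chevE6 6 K) {k | k ∈ JK}) :
    ∃ n ∈ VNJ cs hp.isCartan (XX chevE6 6 K) {k | k ∈ JK}, ∃ a c d : K, w = n * ψ (ar a c d) := by
  obtain ⟨p, hpc⟩ := CharP.exists K
  have : Fact p.Prime := ⟨(CharP.char_is_prime_or_zero K p).resolve_right (CharP.char_ne_zero_of_finite K p)⟩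
  have R := rgd (K := K) hp cs p
  have h1 : SP K PN ⊔ VNJ cs hp.isCartan (XX chevE6 6 K) {k | k ∈ JK} ≤
      VNJ cs hp.isCartan (XX chevE6 6 K) {k | k ∈ JK} ⊔ Ar ψ := by
    refine sup_le (SP_le fun q hq hP c => ?_) le_sup_left
    rcases tabN q hq hP with h | rfl | rfl | rfl
    · refine Subgroup.mem_sup_left ?_
      rw [VNJ_eq]
      exact mem_SP hq h c
    · refine Subgroup.mem_sup_right ⟨c, 0, 0, ?_⟩
      have := hψ 4 0 (by decide) c
      rw [← ar_t0 (by decide), this]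
      rfl
    · refine Subgroup.mem_sup_right ⟨0, c, 0, ?_⟩
      have := hψ 4 2 (by decide) c
      rw [← ar_t2 (by decide), this]
      rfl
    · refine Subgroup.mem_sup_right ⟨0, 0, c, ?_⟩
      have := hψ 4 3 (by decide) c
      rw [← ar_t3 (by decide), this]
      rfl
  have h2 : Ar ψ ≤ Subgroup.normalizer (VNJ cs hp.isCartan (XX chevE6 6 K) {k | k ∈ JK} : Set ↥(chevE6.group K)) := by
    rintro _ ⟨a, c, d, rfl⟩
    exact LJ_le_normalizer_VNJ R _ (phi_LJ tabJK hψ _)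
  have h3 : w ∈ ((VNJ cs hp.isCartan (XX chevE6 6 K) {k | k ∈ JK} ⊔ Ar ψ : Subgroup ↥(chevE6.group K)) :
    Set ↥(chevE6.group K)) := h1 hw
  rw [Subgroup.coe_mul_of_right_le_normalizer_left _ _ h2, Set.mem_mul] at h3
  obtain ⟨n, hn, _, ⟨a, c, d, rfl⟩, e⟩ := h3
  exact ⟨n, hn, a, c, d, e.symm⟩

/-- the upper part -/
theorem exists_bc {ψ : SLn (Fin 5) K →* ↥(chevE6.group K)} (hψ : IsBlk a4 ψ) {w : ↥(chevE6.group K)}
    (hw : w ∈ VJ cs hp.isCartan (XX chevE6 6 K) {k | k ∈ J5}) :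
    ∃ n ∈ VJ cs hp.isCartan (XX chevE6 6 K) {k | k ∈ JK}, ∃ a b c d : K, w = ψ (bc a b c d) * n := by
  obtain ⟨p, hpc⟩ := CharP.exists K
  have : Fact p.Prime := ⟨(CharP.char_is_prime_or_zero K p).resolve_right (CharP.char_ne_zero_of_finite K p)⟩
  have R := rgd (K := K) hp cs p
  rw [VJ_eq] at hw
  have h1 : SP K (fun x => ∃ k, k ∉ J5 ∧ 0 < x k) ≤ Bc ψ ⊔ VJ cs hp.isCartan (XX chevE6 6 K) {k | k ∈ JK} := by
    refine SP_le fun q hq hP c => ?_
    rcases tabB q hq hP with h | rfl | rfl | rfl | rfl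
    · refine Subgroup.mem_sup_right ?_
      rw [VJ_eq]
      exact mem_SP hq h c
    · refine Subgroup.mem_sup_left ⟨c, 0, 0, 0, ?_⟩
      have := hψ 0 4 (by decide) c
      rw [← bc_t0 (by decide), this]
      rfl
    · refine Subgroup.mem_sup_left ⟨0, c, 0, 0, ?_⟩
      have := hψ 1 4 (by decide) c
      rw [← bc_t1 (by decide), this]
      rfl
    · refine Subgroup.mem_sup_left ⟨0, 0, c, 0, ?_⟩
      have := hψ 2 4 (by decide) c
      rw [← bc_t2 (by decide), this]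
      rfl
    · refine Subgroup.mem_sup_left ⟨0, 0, 0, c, ?_⟩
      have := hψ 3 4 (by decide) c
      rw [← bc_t3 (by decide), this]
      rfl
  have h2 : Bc ψ ≤ Subgroup.normalizer (VJ cs hp.isCartan (XX chevE6 6 K) {k | k ∈ JK} : Set ↥(chevE6.group K)) := by
    rintro _ ⟨a, b, c, d, rfl⟩
    exact LJ_le_normalizer_VJ R _ (phi_LJ tabJK hψ _)
  have h3 : w ∈ ((Bc ψ ⊔ VJ cs hp.isCartan (XX chevE6 6 K) {k | k ∈ JK} : Subgroup ↥(chevE6.group K)) :
    Set ↥(chevE6.group K)) := h1 hw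
  rw [Subgroup.coe_mul_of_left_le_normalizer_right _ _ h2, Set.mem_mul] at h3
  obtain ⟨_, ⟨a, b, c, d, rfl⟩, n, hn, e⟩ := h3
  exact ⟨n, hn, a, b, c, d, e.symm⟩

end

/-! ### Commuting elements -/

theorem tabC : ∀ a b, a ≠ b → (a4 a b ≠ 56 ∧ a4 a b ≠ chevE6.neg 56 ∧ chevE6.commTerms 56 (a4 a b) = []) ∧
    (a4 a b ≠ 15 ∧ a4 a b ≠ chevE6.neg 15 ∧ chevE6.commTerms 15 (a4 a b) = []) := by decide +kernel

theorem xc_comm {q r : ℕ} (hq : q < 72) (hr : r < 72) (h : r ≠ q ∧ r ≠ chevE6.neg q ∧ chevE6.commTerms q r = []) (c d : K) :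
    xc hp (vec chevE6 6 q) c * xc hp (vec chevE6 6 r) d = xc hp (vec chevE6 6 r) d * xc hp (vec chevE6 6 q) c := by
  apply Subtype.ext
  change ((xc hp (vec chevE6 6 q) c : ↥(chevE6.group K)) : GL chevE6.Idx K) * ((xc hp (vec chevE6 6 r) d : ↥(chevE6.group K)) : GL chevE6.Idx K) =
    ((xc hp (vec chevE6 6 r) d : ↥(chevE6.group K)) : GL chevE6.Idx K) * ((xc hp (vec chevE6 6 q) c : ↥(chevE6.group K)) : GL chevE6.Idx K)
  rw [coe_xc hp hq, coe_xc hp hr]
  exact comm_nil hp.inList hq hr h.1 h.2.1 h.2.2 c d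

theorem H6_comm {φ : SLn (Fin 6) K →* ↥(chevE6.group K)} (hφ : IsBlk a5 φ) {ψ : SLn (Fin 5) K →* ↥(chevE6.group K)}
    (hψ : IsBlk a4 ψ) (A : SLn (Fin 5) K) : φ (H6 K) * ψ A = ψ A * φ (H6 K) := by
  have h1 : ∀ c : K, ∀ A : SLn (Fin 5) K, xc hp (vec chevE6 6 56) c * ψ A = ψ A * xc hp (vec chevE6 6 56) c := by
    intro c A
    have h2 : (⊤ : Subgroup (SLn (Fin 5) K)) ≤ (Subgroup.centralizer {xc hp (vec chevE6 6 56) c}).comap ψ := by
      rw [← Cfsg.Agent.LieClassical.SLGen.closure_transvections, Subgroup.closure_le]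
      rintro _ ⟨a, b, hab, d, rfl⟩
      change ψ _ ∈ Subgroup.centralizer {xc hp (vec chevE6 6 56) c}
      rw [hψ, Subgroup.mem_centralizer_singleton_iff]
      exact (xc_comm (by norm_num) (rt4.1 a b hab) (tabC a b hab).1 c d).symm
    have h3 := h2 (Subgroup.mem_top A)
    rw [Subgroup.mem_comap, Subgroup.mem_centralizer_singleton_iff] at h3
    exact h3.symm
  have h1' : ∀ c : K, ∀ A : SLn (Fin 5) K, xc hp (vec chevE6 6 15) c * ψ A = ψ A * xc hp (vec chevE6 6 15) c := by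
    intro c A
    have h2 : (⊤ : Subgroup (SLn (Fin 5) K)) ≤ (Subgroup.centralizer {xc hp (vec chevE6 6 15) c}).comap ψ := by
      rw [← Cfsg.Agent.LieClassical.SLGen.closure_transvections, Subgroup.closure_le]
      rintro _ ⟨a, b, hab, d, rfl⟩
      change ψ _ ∈ Subgroup.centralizer {xc hp (vec chevE6 6 15) c}
      rw [hψ, Subgroup.mem_centralizer_singleton_iff]
      exact (xc_comm (by norm_num) (rt4.1 a b hab) (tabC a b hab).2 c d).symm
    have h3 := h2 (Subgroup.mem_top A)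
    rw [Subgroup.mem_comap, Subgroup.mem_centralizer_singleton_iff] at h3
    exact h3.symm
  have h4 : φ (H6 K) ∈ Subgroup.centralizer {ψ A} := by
    have e1 : ∀ c : K, φ (tvn (show (4 : Fin 6) ≠ 5 by decide) c) ∈ Subgroup.centralizer {ψ A} := by
      intro c
      rw [hφ, Subgroup.mem_centralizer_singleton_iff]
      exact h1 c A
    have e2 : ∀ c : K, φ (tvn (show (5 : Fin 6) ≠ 4 by decide) c) ∈ Subgroup.centralizer {ψ A} := by
      intro c
      rw [hφ, Subgroup.mem_centralizer_singleton_iff]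
      exact h1' c A
    have e3 : φ (wl K (show (4 : Fin 6) ≠ 5 by decide)) ∈ Subgroup.centralizer {ψ A} := by
      unfold wl
      rw [map_mul, map_mul]
      exact mul_mem (mul_mem (e1 _) (e2 _)) (e1 _)
    unfold H6
    rw [map_mul]
    exact mul_mem e3 e3
  rw [Subgroup.mem_centralizer_singleton_iff] at h4
  exact h4

theorem H6_mem {φ : SLn (Fin 6) K →* ↥(chevE6.group K)} (hφ : IsBlk a5 φ) : φ (H6 K) ∈ SP K PL := by
  have e1 : ∀ c : K, φ (tvn (show (4 : Fin 6) ≠ 5 by decide) c) ∈ SP K PL := by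
    intro c
    rw [hφ]
    exact mem_SP (by decide) (by decide +kernel) c
  have e2 : ∀ c : K, φ (tvn (show (5 : Fin 6) ≠ 4 by decide) c) ∈ SP K PL := by
    intro c
    rw [hφ]
    exact mem_SP (by decide) (by decide +kernel) c
  have e3 : φ (wl K (show (4 : Fin 6) ≠ 5 by decide)) ∈ SP K PL := by
    unfold wl
    rw [map_mul, map_mul]
    exact mul_mem (mul_mem (e1 _) (e2 _)) (e1 _)
  unfold H6
  rw [map_mul]
  exact mul_mem e3 e3

/-- the group of the doublet inside the first block commutes with `M0` -/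
theorem S2_six {φ : SLn (Fin 6) K →* ↥(chevE6.group K)} (hφ : IsBlk a5 φ) {χ : SLn (Fin 3) K →* ↥(chevE6.group K)}
    (hχ : IsBlk a2 χ) {A : SLn (Fin 6) K} (hA : A.1 = M0 K) {s : SLn (Fin 3) K} (hs : s ∈ S2 K) :
    ∃ t : SLn (Fin 6) K, χ s = φ t ∧ t * A = A * t := by
  have h1 : S2 K ≤ ((Subgroup.centralizer {A}).map φ).comap χ := by
    unfold S2
    rw [Subgroup.closure_le]
    rintro _ ⟨a, b, hab, t, ⟨rfl, rfl⟩ | ⟨rfl, rfl⟩, rfl⟩
    · refine ⟨tvn (show (3 : Fin 6) ≠ 4 by decide) t, ?_, ?_⟩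
      · rw [SetLike.mem_coe, Subgroup.mem_centralizer_singleton_iff]
        apply Subtype.ext
        change (1 + single (3 : Fin 6) (4 : Fin 6) t) * A.1 = A.1 * (1 + single (3 : Fin 6) (4 : Fin 6) t)
        have e1 : single (3 : Fin 6) (4 : Fin 6) t * single (0 : Fin 6) (1 : Fin 6) (1 : K) = 0 := Matrix.single_mul_single_of_ne _ _ _ _ (by decide) _
        have e2 : single (0 : Fin 6) (1 : Fin 6) (1 : K) * single (3 : Fin 6) (4 : Fin 6) t = 0 := Matrix.single_mul_single_of_ne _ _ _ _ (by decide) _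
        rw [hA, M0]
        simp only [mul_neg, neg_mul, mul_add, add_mul, e1, e2, mul_one, one_mul]
        abel
      · rw [hφ, hχ]; rfl
    · refine ⟨tvn (show (4 : Fin 6) ≠ 3 by decide) t, ?_, ?_⟩
      · rw [SetLike.mem_coe, Subgroup.mem_centralizer_singleton_iff]
        apply Subtype.ext
        change (1 + single (4 : Fin 6) (3 : Fin 6) t) * A.1 = A.1 * (1 + single (4 : Fin 6) (3 : Fin 6) t)
        have e1 : single (4 : Fin 6) (3 : Fin 6) t * single (0 : Fin 6) (1 : Fin 6) (1 : K) = 0 := Matrix.single_mul_single_of_ne _ _ _ _ (by decide) _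
        have e2 : single (0 : Fin 6) (1 : Fin 6) (1 : K) * single (4 : Fin 6) (3 : Fin 6) t = 0 := Matrix.single_mul_single_of_ne _ _ _ _ (by decide) _
        rw [hA, M0]
        simp only [mul_neg, neg_mul, mul_add, add_mul, e1, e2, mul_one, one_mul]
        abel
      · rw [hφ, hχ]; rfl
  obtain ⟨t, ht, e⟩ := h1 hs
  exact ⟨t, e.symm, Subgroup.mem_centralizer_singleton_iff.1 ht⟩

end Cfsg.Agent.H143.Pw.ESix
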