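import Cfsg.Agent.H143.Pw.EMain

/-!
# The corner in `E₆(2)` and `E₆(3)` (S2465)

`corner` : every element outside the core is conjugate to `v l u`, `v ∈ V_J⁻`, `u ∈ V_J`, `J = {0, 1, 2, 3, 5}` and `l` in the
group generated by the root groups of the block `{0, 2, 3, 1}` of type `A₄`.
-/

set_option autoImplicit false
set_option linter.unusedSectionVars false

namespace Cfsg.Agent.H143.Pw.ESix

open CoxeterSystem Cfsg.Agent.ChevalleyStructure.CoxeterGeom Cfsg.Agent.Tits.Roots Cfsg.Agent.Tits.Core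
  Cfsg.Agent.Nodes.Reps Cfsg.Agent.Nodes.BNOf Cfsg.Agent.Nodes.RGDLib Cfsg.Agent.Nodes.Bruhat
  Cfsg.Agent.Nodes.OppDec Cfsg.Agent.Nodes.LeviDec Cfsg.Agent.Nodes.KindChev Cfsg.Agent.Nodes.ChevCls
  Cfsg.Agent.Nodes.StabComb
  Cfsg.Agent.OddHalf.NI.ModelChev
  Cfsg.Agent.H162.GaussDec Cfsg.Agent.H162.GaussLevi Cfsg.Agent.H162.GaussSL
  Cfsg.Agent.H162.GaussMain Cfsg.Agent.H162.GaussPQ Cfsg.Agent.H162.GaussExc
open Cfsg.Lie Cfsg.Agent.ChevalleyStructure Cfsg.Agent.ChevalleyStructure.Elts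
  Cfsg.Agent.ChevalleyStructure.RootVec Cfsg.Agent.ChevalleyStructure.NPerm
  Cfsg.Agent.ChevalleyStructure.CoxeterGeomTypes Cfsg.Agent.Nodes.RGDChev Cfsg.Agent.KFacts.RgdChevCoord
open Cfsg.Agent.TitsThree.KExcRT Cfsg.Agent.AGraded
open Cfsg.Agent.H143.Pw.Cor

universe u

variable {K : Type u} [Field K]

local notation "SLn" => Matrix.SpecialLinearGroup
local notation "tvn" => Matrix.SpecialLinearGroup.transvection

theorem PL_le_m : SP K PL ≤ SP K Pm := SP_mono fun _ _ h => Or.inr h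

theorem PL_le_p : SP K PL ≤ SP K Pp := SP_mono fun _ _ h => Or.inr h

set_option synthInstance.maxHeartbeats 200000 in
set_option synthInstance.maxSize 2000 in
theorem tabS : ∀ q < 72, (∀ k, k ∉ J5 → vec chevE6 6 q k = 0) → ∃ a b, a ≠ b ∧ a5 a b = q ∧
    (a < b → ∃ k, 0 < vec chevE6 6 q k) ∧ (b < a → ∃ k, vec chevE6 6 q k < 0) := by decide +kernel

theorem up_blk {φ : SLn (Fin 6) K →* ↥(chevE6.group K)} (hφ : IsBlk a5 φ) :
    UJ cs hp.isCartan (XX chevE6 6 K) {k | k ∈ J5} ≤ (UT 6 K).map φ := by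
  refine RGD.Sup_le fun x hx => ?_
  obtain ⟨q, hq, rfl⟩ := (isRoot_iff hp _ x).1 hx.1
  obtain ⟨a, b, hab, rfl, h1, h2⟩ := tabS q hq hx.2.2
  have hlt : a < b := by
    rcases lt_or_gt_of_ne hab with h | h
    · exact h
    · obtain ⟨k, hk⟩ := h2 h
      exact absurd (hx.2.1 k) (not_le.2 hk)
  intro y hy
  obtain ⟨c, rfl⟩ := (mem_XX hp hq y).1 hy
  exact ⟨tvn hab c, tv_mem_UT hab hlt _, hφ _ _ _ _⟩

theorem lo_blk {φ : SLn (Fin 6) K →* ↥(chevE6.group K)} (hφ : IsBlk a5 φ) :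
    UNJ cs hp.isCartan (XX chevE6 6 K) {k | k ∈ J5} ≤ (LT 6 K).map φ := by
  refine RGD.Sup_le fun x hx => ?_
  have hxr : IsRoot cs hp.isCartan x := by
    have := hx.1.neg
    rwa [_root_.neg_neg] at this
  obtain ⟨q, hq, rfl⟩ := (isRoot_iff hp _ x).1 hxr
  obtain ⟨a, b, hab, rfl, h1, h2⟩ := tabS q hq (fun k hk => by
    have := hx.2.2 k hk
    rwa [Pi.neg_apply, neg_eq_zero] at this)
  have hlt : b < a := by
    rcases lt_or_gt_of_ne hab with h | h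
    · obtain ⟨k, hk⟩ := h1 h
      have h3 : (0 : ℤ) ≤ -(vec chevE6 6 (a5 a b) k) := hx.2.1 k
      exact absurd hk (not_lt.2 (by linarith))
    · exact h
  intro y hy
  obtain ⟨c, rfl⟩ := (mem_XX hp hq y).1 hy
  exact ⟨tvn hab c, tv_mem_LT hab hlt _, hφ _ _ _ _⟩

theorem LU_zero {L U : SLn (Fin 6) K} (hL : L ∈ LT 6 K) (hU : U ∈ UT 6 K) : (L * U).1 0 0 = 1 := by
  have h1 : (L * U).1 0 0 = ∑ k, L.1 0 k * U.1 k 0 := by
    change (L.1 * U.1) 0 0 = _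
    rw [Matrix.mul_apply]
  rw [h1, Finset.sum_eq_single 0]
  · have h2 : L.1 0 0 = 1 := hL.2 0
    rw [h2, hU.2 0, mul_one]
  · intro k _ hk
    have h2 : U.1 k 0 = 0 := hU.1 (Fin.pos_of_ne_zero hk)
    rw [h2, mul_zero]
  · intro h
    exact absurd (Finset.mem_univ _) h

variable [Finite K]

/-- the special case -/
theorem bad_case (h3 : (3 : K) = 0) {φ : SLn (Fin 6) K →* ↥(chevE6.group K)} (hφ : IsBlk a5 φ) {A : SLn (Fin 6) K}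
    (hA : A.1 = M0 K) {v u : ↥(chevE6.group K)} (hv : v ∈ VNJ cs hp.isCartan (XX chevE6 6 K) {k | k ∈ J5})
    (hu : u ∈ VJ cs hp.isCartan (XX chevE6 6 K) {k | k ∈ J5}) :
    ∃ y : ↥(chevE6.group K), ∃ a ∈ SP K Pm, ∃ b ∈ SP K Pp, y * (v * φ A * u) * y⁻¹ = a * b := by
  obtain ⟨p, hpc⟩ := CharP.exists K
  have : Fact p.Prime := ⟨(CharP.char_is_prime_or_zero K p).resolve_right (CharP.char_ne_zero_of_finite K p)⟩
  have R := rgd (K := K) hp cs p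
  obtain ⟨ψ, hψ⟩ := exists_blk (K := K) rt4
  obtain ⟨χ, hχ⟩ := exists_blk (K := K) rt2
  obtain ⟨n, hn, c, d, rfl⟩ := exists_row hχ hv
  obtain ⟨s, hs, c', hsc⟩ := exists_kill c d
  obtain ⟨t, hst, htA⟩ := S2_six hφ hχ hA hs
  -- conjugate by `s`
  have hnrm : χ s ∈ Subgroup.normalizer (SP K PN : Set ↥(chevE6.group K)) := by
    have h1 : S2 K ≤ (Subgroup.normalizer (SP K PN : Set ↥(chevE6.group K))).comap χ := by
      unfold S2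
      rw [Subgroup.closure_le]
      rintro _ ⟨a, b, hab, t, hab2, rfl⟩
      refine nrm_phi2 hχ _ (tab2b a b hab ?_) _
      rcases hab2 with ⟨rfl, rfl⟩ | ⟨rfl, rfl⟩ <;> decide
    exact h1 hs
  have hn' : χ s * n * (χ s)⁻¹ ∈ SP K PN := (Subgroup.mem_normalizer_iff.1 hnrm n).1 hn
  have hu' : χ s * u * (χ s)⁻¹ ∈ VJ cs hp.isCartan (XX chevE6 6 K) {k | k ∈ J5} := by
    rw [hst]
    exact (Subgroup.mem_normalizer_iff.1 (LJ_le_normalizer_VJ R _ (phi_LJ tabJ5 hφ t)) u).1 hu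
  have hrow : χ (rw3 c' 0) ∈ VNJ cs hp.isCartan (XX chevE6 6 K) {k | k ∈ JK} := by
    rw [← rw3_20 (by decide), hχ, VNJ_eq]
    exact mem_SP (by decide) (by decide +kernel) c'
  obtain ⟨m, hm, α, γ, δ, em⟩ := exists_ar hψ (w := (χ s * n * (χ s)⁻¹) * χ (rw3 c' 0))
    (mul_mem (Subgroup.mem_sup_left hn') (Subgroup.mem_sup_right hrow))
  obtain ⟨m', hm', b0, b1, b2, b3, em'⟩ := exists_bc hψ hu'
  -- the second block
  obtain ⟨w₁, w₂, hw⟩ := MK_li h3 α γ δ b0 b1 b2 b3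
  rw [← MK_eq] at hw
  obtain ⟨P, hP⟩ := good_of_li5 hw
  set B : SLn (Fin 5) K := ar α γ δ * D5 K * bc b0 b1 b2 b3 with hB
  have e1 : χ s * (n * χ (rw3 c d) * φ A * u) * (χ s)⁻¹ = m * ψ B * φ (H6 K) * m' := by
    have e2 : χ s * χ (rw3 c d) * (χ s)⁻¹ = χ (rw3 c' 0) := by
      rw [← map_mul, hsc, map_mul]
      group
    have e3 : χ s * φ A * (χ s)⁻¹ = φ A := by
      rw [hst, ← map_mul, htA, map_mul]
      group
    have e4 : φ A = ψ (D5 K) * φ (H6 K) := by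
      rw [eq_T6_H6 hA, map_mul, phi_T6 hφ hψ]
    calc χ s * (n * χ (rw3 c d) * φ A * u) * (χ s)⁻¹
        = (χ s * n * (χ s)⁻¹) * (χ s * χ (rw3 c d) * (χ s)⁻¹) * (χ s * φ A * (χ s)⁻¹) * (χ s * u * (χ s)⁻¹) := by group
      _ = (m * ψ (ar α γ δ)) * (ψ (D5 K) * φ (H6 K)) * (ψ (bc b0 b1 b2 b3) * m') := by rw [e2, e3, em', em, e4]
      _ = m * ψ (ar α γ δ) * ψ (D5 K) * (φ (H6 K) * ψ (bc b0 b1 b2 b3)) * m' := by group
      _ = m * ψ (ar α γ δ) * ψ (D5 K) * (ψ (bc b0 b1 b2 b3) * φ (H6 K)) * m' := by rw [H6_comm hφ hψ]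
      _ = m * ψ B * φ (H6 K) * m' := by rw [hB, map_mul, map_mul]; group
  obtain ⟨a, ha, l, hl, b, hb, eP⟩ := cell4 hψ hP
  have hm1 : ψ P⁻¹ * m * (ψ P⁻¹)⁻¹ ∈ SP K Pm :=
    VNJK_le ((Subgroup.mem_normalizer_iff.1 (LJ_le_normalizer_VNJ R _ (phi_LJ tabJK hψ P⁻¹)) m).1 hm)
  have hm1' : ψ P⁻¹ * m' * (ψ P⁻¹)⁻¹ ∈ SP K Pp :=
    VJK_le ((Subgroup.mem_normalizer_iff.1 (LJ_le_normalizer_VJ R _ (phi_LJ tabJK hψ P⁻¹)) m').1 hm')
  refine ⟨ψ P⁻¹ * χ s, (ψ P⁻¹ * m * (ψ P⁻¹)⁻¹) * a * l, mul_mem (mul_mem hm1 ha) (PL_le_m hl),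
    b * φ (H6 K) * (ψ P⁻¹ * m' * (ψ P⁻¹)⁻¹), mul_mem (mul_mem hb (PL_le_p (H6_mem hφ))) hm1', ?_⟩
  have hc := H6_comm hφ hψ P
  have hz : ψ P⁻¹ = (ψ P)⁻¹ := map_inv ψ P
  have eP' : (ψ P)⁻¹ * ψ B * ψ P = a * l * b := by
    rw [map_mul ψ (P⁻¹ * B) P, map_mul ψ P⁻¹ B, hz] at eP
    exact eP
  clear_value B
  rw [hz]
  calc (ψ P)⁻¹ * χ s * (n * χ (rw3 c d) * φ A * u) * ((ψ P)⁻¹ * χ s)⁻¹
      = (ψ P)⁻¹ * (χ s * (n * χ (rw3 c d) * φ A * u) * (χ s)⁻¹) * ψ P := by group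
    _ = (ψ P)⁻¹ * (m * ψ B * φ (H6 K) * m') * ψ P := by rw [e1]
    _ = ((ψ P)⁻¹ * m * (ψ P)⁻¹⁻¹) * ((ψ P)⁻¹ * ψ B * (φ (H6 K) * ψ P)) * ((ψ P)⁻¹ * m' * (ψ P)⁻¹⁻¹) := by
        rw [hc]
        have hc' : φ (H6 K) = ψ P * φ (H6 K) * (ψ P)⁻¹ := by rw [← hc]; group
        conv_lhs => rw [hc']
        group
    _ = ((ψ P)⁻¹ * m * (ψ P)⁻¹⁻¹) * (((ψ P)⁻¹ * ψ B * ψ P) * φ (H6 K)) * ((ψ P)⁻¹ * m' * (ψ P)⁻¹⁻¹) := by
        rw [hc]; group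
    _ = _ := by rw [eP']; group

/-- **The corner, as a product of two subgroups.** -/
theorem conj_cell (hK : Nat.card K = 2 ∨ Nat.card K = 3) {g : ↥(chevE6.group K)}
    (hg : ∃ x : ↥(chevE6.group K), ∃ v ∈ UN cs hp.isCartan (XX chevE6 6 K),
      ∃ u ∈ RGD.Sup (XX chevE6 6 K) (RGD.Pos cs hp.isCartan), x * g * x⁻¹ = v * u) :
    ∃ y : ↥(chevE6.group K), ∃ a ∈ SP K Pm, ∃ b ∈ SP K Pp, y * g * y⁻¹ = a * b := by
  obtain ⟨p, hpc⟩ := CharP.exists K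
  have : Fact p.Prime := ⟨(CharP.char_is_prime_or_zero K p).resolve_right (CharP.char_ne_zero_of_finite K p)⟩
  have R := rgd (K := K) hp cs p
  obtain ⟨φ, hφ⟩ := exists_blk (K := K) rt5
  obtain ⟨x, v, hv, u, hu, e⟩ := hg
  obtain ⟨vP, hvP, vL, hvL, rfl⟩ := exists_UNJ R (J := {k | k ∈ J5}) hv
  obtain ⟨uL, huL, uP, huP, rfl⟩ := (mem_U_iff R (J := {k | k ∈ J5})).1 hu
  obtain ⟨L, hL, rfl⟩ := lo_blk hφ hvL
  obtain ⟨U, hU, rfl⟩ := up_blk hφ huL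
  set M : SLn (Fin 6) K := L * U with hM
  have hM00 : M.1 0 0 = 1 := LU_zero hL hU
  have hd : (∃ P : SLn (Fin 6) K, Good (n := 4) (P⁻¹ * M * P).1) ∨
      ((3 : K) = 0 ∧ ∃ P : SLn (Fin 6) K, (P⁻¹ * M * P).1 = M0 K) := by
    by_cases h1 : M = 1
    · left
      refine ⟨1, ?_⟩
      rw [h1, inv_one, mul_one, mul_one]
      exact ⟨rfl, rfl, rfl, rfl⟩
    · refine dich hK fun h2 => h1 ?_
      apply Subtype.ext
      have h4 : (1 : K) = -1 := by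
        have := hM00
        rw [h2, Matrix.neg_apply, Matrix.one_apply_eq] at this
        exact this.symm
      rw [h2]
      ext i j
      change -((1 : Matrix (Fin 6) (Fin 6) K) i j) = (1 : Matrix (Fin 6) (Fin 6) K) i j
      rw [Matrix.one_apply]
      split_ifs
      · exact h4.symm
      · exact neg_zero
  have e1 : ∀ P : SLn (Fin 6) K, φ P⁻¹ * x * g * (φ P⁻¹ * x)⁻¹ =
      (φ P⁻¹ * vP * (φ P⁻¹)⁻¹) * φ (P⁻¹ * M * P) * (φ P⁻¹ * uP * (φ P⁻¹)⁻¹) := by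
    intro P
    calc φ P⁻¹ * x * g * (φ P⁻¹ * x)⁻¹ = φ P⁻¹ * (x * g * x⁻¹) * (φ P⁻¹)⁻¹ := by group
      _ = _ := by rw [e, map_mul, map_mul, hM, map_mul, map_inv]; group
  have hvP' : ∀ P : SLn (Fin 6) K, φ P⁻¹ * vP * (φ P⁻¹)⁻¹ ∈ VNJ cs hp.isCartan (XX chevE6 6 K) {k | k ∈ J5} := fun P =>
    (Subgroup.mem_normalizer_iff.1 (LJ_le_normalizer_VNJ R _ (phi_LJ tabJ5 hφ P⁻¹)) vP).1 hvP
  have huP' : ∀ P : SLn (Fin 6) K, φ P⁻¹ * uP * (φ P⁻¹)⁻¹ ∈ VJ cs hp.isCartan (XX chevE6 6 K) {k | k ∈ J5} := fun P =>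
    (Subgroup.mem_normalizer_iff.1 (LJ_le_normalizer_VJ R _ (phi_LJ tabJ5 hφ P⁻¹)) uP).1 huP
  rcases hd with ⟨P, hP⟩ | ⟨h3, P, hP⟩
  · obtain ⟨a, ha, l, hl, b, hb, eP⟩ := cell5 hφ hP
    refine ⟨φ P⁻¹ * x, (φ P⁻¹ * vP * (φ P⁻¹)⁻¹) * a * l, mul_mem (mul_mem (VNJ5_le (hvP' P)) ha) (PL_le_m hl),
      b * (φ P⁻¹ * uP * (φ P⁻¹)⁻¹), mul_mem hb (VJ5_le (huP' P)), ?_⟩
    rw [e1 P, eP]
    group
  · obtain ⟨y, a, ha, b, hb, ey⟩ := bad_case h3 hφ hP (hvP' P) (huP' P)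
    refine ⟨y * (φ P⁻¹ * x), a, ha, b, hb, ?_⟩
    rw [← ey, ← e1 P]
    group

set_option synthInstance.maxHeartbeats 200000 in
set_option synthInstance.maxSize 2000 in
theorem tabm : ∀ q < 72, Pm (vec chevE6 6 q) → (∃ k, k ∉ Jp ∧ vec chevE6 6 q k < 0) ∨ PL (vec chevE6 6 q) := by
  decide +kernel

set_option synthInstance.maxHeartbeats 200000 in
set_option synthInstance.maxSize 2000 in
theorem tabp : ∀ q < 72, Pp (vec chevE6 6 q) → (∃ k, k ∉ Jp ∧ 0 < vec chevE6 6 q k) ∨ PL (vec chevE6 6 q) := by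
  decide +kernel

theorem PL_le_LJ : SP K PL ≤ LJ cs hp.isCartan (TT chevE6 K) (XX chevE6 6 K) {k | k ∈ Jp} := by
  refine RGD.Sup_le fun x hx => X_le_LJ ⟨hx.1, fun k hk => ?_⟩
  have hk4 : k = 4 := by
    by_contra h
    apply hk
    fin_cases k <;> simp_all
  rw [hk4]
  exact hx.2.1

/-- **The corner in `E₆(2)` and `E₆(3)`.** -/
theorem corner (hK : Nat.card K = 2 ∨ Nat.card K = 3) {g : ↥(chevE6.group K)}
    (hg : g ∉ (RGD.B cs hp.isCartan (TT chevE6 K) (XX chevE6 6 K)).normalCore) :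
    ∃ x : ↥(chevE6.group K), ∃ v ∈ VNJ cs hp.isCartan (XX chevE6 6 K) {k | k ∈ Jp},
      ∃ l ∈ SP K PL, ∃ u ∈ VJ cs hp.isCartan (XX chevE6 6 K) {k | k ∈ Jp}, x * g * x⁻¹ = v * l * u := by
  obtain ⟨p, hpc⟩ := CharP.exists K
  have : Fact p.Prime := ⟨(CharP.char_is_prime_or_zero K p).resolve_right (CharP.char_ne_zero_of_finite K p)⟩
  have := finite_W hp cs
  have R := rgd (K := K) hp cs p
  obtain ⟨y, a, ha, b, hb, e⟩ := conj_cell hK (gauss R (G1_eq_top hp _) (coord hp)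
    (Cfsg.Agent.Nodes.ChevChart.irr_of Cfsg.Agent.Nodes.ChevChart.irr6) hg)
  have h1 : a ∈ ((VNJ cs hp.isCartan (XX chevE6 6 K) {k | k ∈ Jp} ⊔ SP K PL : Subgroup ↥(chevE6.group K)) :
      Set ↥(chevE6.group K)) := by
    refine (?_ : SP K Pm ≤ _) ha
    refine SP_le fun q hq hP c => ?_
    rcases tabm q hq hP with h | h
    · refine Subgroup.mem_sup_left ?_
      rw [VNJ_eq]
      exact mem_SP hq h c
    · exact Subgroup.mem_sup_right (mem_SP hq h c)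
  rw [Subgroup.coe_mul_of_right_le_normalizer_left _ _ (le_trans PL_le_LJ (LJ_le_normalizer_VNJ R _)), Set.mem_mul] at h1
  obtain ⟨v, hv, l, hl, rfl⟩ := h1
  have h2 : b ∈ ((SP K PL ⊔ VJ cs hp.isCartan (XX chevE6 6 K) {k | k ∈ Jp} : Subgroup ↥(chevE6.group K)) :
      Set ↥(chevE6.group K)) := by
    refine (?_ : SP K Pp ≤ _) hb
    refine SP_le fun q hq hP c => ?_
    rcases tabp q hq hP with h | h
    · refine Subgroup.mem_sup_right ?_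
      rw [VJ_eq]
      exact mem_SP hq h c
    · exact Subgroup.mem_sup_left (mem_SP hq h c)
  rw [Subgroup.coe_mul_of_left_le_normalizer_right _ _ (le_trans PL_le_LJ (LJ_le_normalizer_VJ R _)), Set.mem_mul] at h2
  obtain ⟨l', hl', u, hu, rfl⟩ := h2
  exact ⟨y, v, hv, l * l', mul_mem hl hl', u, hu, by rw [e]; group⟩

end Cfsg.Agent.H143.Pw.ESix
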