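import Cfsg.Agent.H143.Pw.Dich
import Cfsg.Agent.H162.GaussExcMain

/-!
The corner in `E₆` (S2465): tables and inclusions.
-/

set_option autoImplicit false
set_option linter.unusedSectionVars false

namespace Cfsg.Agent.H143.Pw.ESix

open CoxeterSystem Cfsg.Agent.ChevalleyStructure.CoxeterGeom Cfsg.Agent.Tits.Roots Cfsg.Agent.Tits.Core
  Cfsg.Agent.Nodes.Reps Cfsg.Agent.Nodes.BNOf Cfsg.Agent.Nodes.RGDLib Cfsg.Agent.Nodes.Bruhat
  Cfsg.Agent.Nodes.OppDec Cfsg.Agent.Nodes.LeviDec Cfsg.Agent.Nodes.KindChev Cfsg.Agent.Nodes.ChevCls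
  Cfsg.Agent.Nodes.StabComb
  Cfsg.Agent.OddHalf.NI.ModelChev
  Cfsg.Agent.H162.GaussDec Cfsg.Agent.H162.GaussLevi Cfsg.Agent.H162.GaussSL
  Cfsg.Agent.H162.GaussMain Cfsg.Agent.H162.GaussPQ Cfsg.Agent.H162.GaussExc
open Cfsg.Lie Cfsg.Agent.ChevalleyStructure Cfsg.Agent.ChevalleyStructure.Elts
  Cfsg.Agent.ChevalleyStructure.RootVec Cfsg.Agent.ChevalleyStructure.NPerm
  Cfsg.Agent.ChevalleyStructure.CoxeterGeomTypes Cfsg.Agent.Nodes.RGDChev Cfsg.Agent.KFacts.RgdChevCoord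
open Cfsg.Agent.TitsThree.KExcRT Cfsg.Agent.AGraded
open Cfsg.Agent.H162.GaussExcMain (exists_hom_D)
open Cfsg.Agent.H162.GaussPSL (embf embf_tv)
open Cfsg.Agent.H143.Pw.Cor

universe u

/-- the block of type `A₅` -/
def a5 : Fin 6 → Fin 6 → ℕ := ![![0, 36, 38, 41, 45, 60], ![35, 0, 37, 40, 44, 59], ![33, 34, 0, 39, 43, 58],
  ![30, 31, 32, 0, 42, 57], ![26, 27, 28, 29, 0, 56], ![11, 12, 13, 14, 15, 0]]

/-- the block of type `A₄` -/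
def a4 : Fin 5 → Fin 5 → ℕ := ![![0, 36, 38, 41, 49], ![35, 0, 37, 40, 48], ![33, 34, 0, 39, 47], ![30, 31, 32, 0, 46],
  ![22, 23, 24, 25, 0]]

/-- the block of type `A₂` -/
def a2 : Fin 3 → Fin 3 → ℕ := ![![0, 42, 51], ![29, 0, 48], ![20, 23, 0]]

theorem rt5 : RTa chevE6 a5 ∧ (RTb chevE6 a5 fun _ _ => 1) ∧ RTc chevE6 a5 ∧
    ∀ i j, i ≠ j → a5 j i = chevE6.neg (a5 i j) := by decide +kernel

theorem rt4 : RTa chevE6 a4 ∧ (RTb chevE6 a4 fun _ _ => 1) ∧ RTc chevE6 a4 ∧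
    ∀ i j, i ≠ j → a4 j i = chevE6.neg (a4 i j) := by decide +kernel

theorem rt2 : RTa chevE6 a2 ∧ (RTb chevE6 a2 fun _ _ => 1) ∧ RTc chevE6 a2 ∧
    ∀ i j, i ≠ j → a2 j i = chevE6.neg (a2 i j) := by decide +kernel

/-- the type -/
theorem hp : IsType chevE6 6 CoxeterMatrix.E₆ := Cfsg.Agent.Nodes.KindE.isType6

/-- the Coxeter system -/
abbrev cs := CoxeterMatrix.E₆.toCoxeterSystem

/-- the subgroup generated by the root groups with a property of the coordinates -/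
def SP (K : Type u) [Field K] (P : (Fin 6 → ℤ) → Prop) : Subgroup ↥(chevE6.group K) :=
  RGD.Sup (XX chevE6 6 K) {x | IsRoot cs hp.isCartan x ∧ P x}

variable {K : Type u} [Field K]

theorem SP_le {P : (Fin 6 → ℤ) → Prop} {H : Subgroup ↥(chevE6.group K)}
    (h : ∀ q < 72, P (vec chevE6 6 q) → ∀ c : K, xc hp (vec chevE6 6 q) c ∈ H) : SP K P ≤ H := by
  refine RGD.Sup_le fun x hx => ?_
  obtain ⟨hx1, hx2⟩ := hx
  obtain ⟨q, hq, rfl⟩ := (isRoot_iff hp _ x).1 hx1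
  intro y hy
  obtain ⟨c, rfl⟩ := (mem_XX hp hq y).1 hy
  exact h q hq hx2 c

theorem mem_SP {P : (Fin 6 → ℤ) → Prop} {q : ℕ} (hq : q < 72) (h : P (vec chevE6 6 q)) (c : K) :
    xc hp (vec chevE6 6 q) c ∈ SP K P :=
  RGD.le_Sup (S := {x | IsRoot cs hp.isCartan x ∧ P x}) ⟨isRoot_vec hp _ hq, h⟩ ((mem_XX hp hq _).2 ⟨_, rfl⟩)

theorem SP_mono {P Q : (Fin 6 → ℤ) → Prop} (h : ∀ q < 72, P (vec chevE6 6 q) → Q (vec chevE6 6 q)) :
    SP K P ≤ SP K Q := SP_le fun q hq hP c => mem_SP hq (h q hq hP) c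

/-! ### Properties -/

/-- `J' = {0, 1, 2, 3, 5}` -/
abbrev Jp : List (Fin 6) := [0, 1, 2, 3, 5]

/-- the nodes of the block `A₅` -/
abbrev J5 : List (Fin 6) := [0, 2, 3, 4, 5]

/-- the nodes of the second block -/
abbrev JK : List (Fin 6) := [1, 3, 4, 5]

/-- lower part -/
abbrev Pm (x : Fin 6 → ℤ) : Prop := x 4 < 0 ∨ (x 4 = 0 ∧ x 5 = 0)

/-- upper part -/
abbrev Pp (x : Fin 6 → ℤ) : Prop := 0 < x 4 ∨ (x 4 = 0 ∧ x 5 = 0)

/-- the block of type `A₄ = {0, 2, 3, 1}` -/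
abbrev PL (x : Fin 6 → ℤ) : Prop := x 4 = 0 ∧ x 5 = 0

theorem VNJ_eq {J : List (Fin 6)} : VNJ cs hp.isCartan (XX chevE6 6 K) {k | k ∈ J} =
    SP K (fun x => ∃ k, k ∉ J ∧ x k < 0) := by
  refine le_antisymm (RGD.Sup_le fun x hx => ?_) (RGD.Sup_le fun x hx => ?_)
  · refine RGD.le_Sup (S := {x | IsRoot cs hp.isCartan x ∧ ∃ k, k ∉ J ∧ x k < 0}) ?_
    obtain ⟨h1, h2, k, hk, hk0⟩ := hx
    refine ⟨?_, k, hk, ?_⟩
    · have := h1.neg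
      rwa [_root_.neg_neg] at this
    · rw [Pi.neg_apply] at hk0
      linarith
  · obtain ⟨h1, k, hk, hk0⟩ := hx
    refine RGD.le_Sup (S := NotNJ cs hp.isCartan {k | k ∈ J}) ?_
    have h2 : 0 < (-x) k := by rw [Pi.neg_apply]; linarith
    exact ⟨h1.neg, nonneg_of_pos_apply h1.neg h2, k, hk, h2⟩

theorem VJ_eq {J : List (Fin 6)} : VJ cs hp.isCartan (XX chevE6 6 K) {k | k ∈ J} =
    SP K (fun x => ∃ k, k ∉ J ∧ 0 < x k) := by
  refine le_antisymm (RGD.Sup_le fun x hx => ?_) (RGD.Sup_le fun x hx => ?_)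
  · exact RGD.le_Sup (S := {x | IsRoot cs hp.isCartan x ∧ ∃ k, k ∉ J ∧ 0 < x k}) ⟨hx.1, hx.2.2⟩
  · obtain ⟨h1, k, hk, hk0⟩ := hx
    exact RGD.le_Sup (S := NotJ cs hp.isCartan {k | k ∈ J}) ⟨h1, nonneg_of_pos_apply h1 hk0, k, hk, hk0⟩

theorem tab5m : ∀ q < 72, (∃ k, k ∉ J5 ∧ vec chevE6 6 q k < 0) → Pm (vec chevE6 6 q) := by decide +kernel
theorem tab5p : ∀ q < 72, (∃ k, k ∉ J5 ∧ 0 < vec chevE6 6 q k) → Pp (vec chevE6 6 q) := by decide +kernel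
theorem tabKm : ∀ q < 72, (∃ k, k ∉ JK ∧ vec chevE6 6 q k < 0) → Pm (vec chevE6 6 q) := by decide +kernel
theorem tabKp : ∀ q < 72, (∃ k, k ∉ JK ∧ 0 < vec chevE6 6 q k) → Pp (vec chevE6 6 q) := by decide +kernel

theorem VNJ5_le : VNJ cs hp.isCartan (XX chevE6 6 K) {k | k ∈ J5} ≤ SP K Pm := by
  rw [VNJ_eq]; exact SP_mono tab5m

theorem VJ5_le : VJ cs hp.isCartan (XX chevE6 6 K) {k | k ∈ J5} ≤ SP K Pp := by
  rw [VJ_eq]; exact SP_mono tab5p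

theorem VNJK_le : VNJ cs hp.isCartan (XX chevE6 6 K) {k | k ∈ JK} ≤ SP K Pm := by
  rw [VNJ_eq]; exact SP_mono tabKm

theorem VJK_le : VJ cs hp.isCartan (XX chevE6 6 K) {k | k ∈ JK} ≤ SP K Pp := by
  rw [VJ_eq]; exact SP_mono tabKp

/-! ### The blocks -/

/-- the homomorphism of a block -/
def IsBlk {n : ℕ} (r : Fin n → Fin n → ℕ) (φ : Matrix.SpecialLinearGroup (Fin n) K →* ↥(chevE6.group K)) : Prop :=
  ∀ a b (hab : a ≠ b) c, φ (Matrix.SpecialLinearGroup.transvection hab c) = xc hp (vec chevE6 6 (r a b)) c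

theorem exists_blk {n : ℕ} {r : Fin (n + 3) → Fin (n + 3) → ℕ}
    (h : RTa chevE6 r ∧ (RTb chevE6 r fun _ _ => 1) ∧ RTc chevE6 r ∧ ∀ i j, i ≠ j → r j i = chevE6.neg (r i j)) :
    ∃ φ : Matrix.SpecialLinearGroup (Fin (n + 3)) K →* ↥(chevE6.group K), IsBlk r φ := by
  obtain ⟨φ, hφ⟩ := exists_hom_D hp (K := K) (ε := 1) (by norm_num) h.1 h.2.1 h.2.2.1 h.2.2.2
  exact ⟨φ, fun a b hab c => by rw [hφ, Int.cast_one, one_mul]⟩

theorem map_closure_le {n : ℕ} {r : Fin n → Fin n → ℕ} (hr : ∀ a b, a ≠ b → r a b < 72)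
    {φ : Matrix.SpecialLinearGroup (Fin n) K →* ↥(chevE6.group K)} (hφ : IsBlk r φ) {P : (Fin 6 → ℤ) → Prop}
    {S : Set (Matrix.SpecialLinearGroup (Fin n) K)}
    (hS : ∀ x ∈ S, ∃ (a b : Fin n) (h : a ≠ b) (t : K), P (vec chevE6 6 (r a b)) ∧
      x = Matrix.SpecialLinearGroup.transvection h t) {x : Matrix.SpecialLinearGroup (Fin n) K}
    (hx : x ∈ Subgroup.closure S) : φ x ∈ SP K P := by
  have h1 : Subgroup.closure S ≤ (SP K P).comap φ := by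
    rw [Subgroup.closure_le]
    intro y hy
    obtain ⟨a, b, hab, t, hP, rfl⟩ := hS y hy
    change φ _ ∈ SP K P
    rw [hφ]
    exact mem_SP (hr a b hab) hP t
  exact h1 hx

theorem low5 : ∀ (a : Fin 4) (c : Fin 6), sh 4 a ≠ c → (c = 0 ∨ c = 1) → Pm (vec chevE6 6 (a5 (sh 4 a) c)) := by
  decide +kernel
theorem up5 : ∀ (a : Fin 4) (c : Fin 6), c ≠ sh 4 a → (c = 0 ∨ c = 1) → Pp (vec chevE6 6 (a5 c (sh 4 a))) := by
  decide +kernel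
theorem mid5 : ∀ (a b : Fin 4), a ≠ b → PL (vec chevE6 6 (a5 (sh 4 a) (sh 4 b))) := by
  decide +kernel
theorem low4 : ∀ (a : Fin 3) (c : Fin 5), sh 3 a ≠ c → (c = 0 ∨ c = 1) → Pm (vec chevE6 6 (a4 (sh 3 a) c)) := by
  decide +kernel
theorem up4 : ∀ (a : Fin 3) (c : Fin 5), c ≠ sh 3 a → (c = 0 ∨ c = 1) → Pp (vec chevE6 6 (a4 c (sh 3 a))) := by
  decide +kernel
theorem mid4 : ∀ (a b : Fin 3), a ≠ b → PL (vec chevE6 6 (a4 (sh 3 a) (sh 3 b))) := by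
  decide +kernel

theorem embf_mem {n m : ℕ} {r : Fin m → Fin m → ℕ} (hr : ∀ a b, a ≠ b → r a b < 72)
    {φ : Matrix.SpecialLinearGroup (Fin m) K →* ↥(chevE6.group K)} (hφ : IsBlk r φ) {P : (Fin 6 → ℤ) → Prop}
    {f : Fin n ↪ Fin m} (h : ∀ a b, a ≠ b → P (vec chevE6 6 (r (f a) (f b)))) (S : Matrix.SpecialLinearGroup (Fin n) K) :
    φ (embf K f S) ∈ SP K P := by
  have h1 : (⊤ : Subgroup (Matrix.SpecialLinearGroup (Fin n) K)) ≤ (SP K P).comap (φ.comp (embf K f)) := by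
    rw [← Cfsg.Agent.LieClassical.SLGen.closure_transvections, Subgroup.closure_le]
    rintro _ ⟨a, b, hab, c, rfl⟩
    change φ (embf K f (Matrix.SpecialLinearGroup.transvection hab c)) ∈ SP K P
    have hne : f a ≠ f b := fun h => hab (f.injective h)
    rw [embf_tv, Cfsg.Agent.TitsThree.KSideA.tv_of_ne hne, hφ]
    exact mem_SP (hr _ _ hne) (h a b hab) c
  exact h1 (Subgroup.mem_top S)

/-- a matrix in the corner form of the first block is in the cell -/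
theorem cell5 {φ : Matrix.SpecialLinearGroup (Fin 6) K →* ↥(chevE6.group K)} (hφ : IsBlk a5 φ)
    {A : Matrix.SpecialLinearGroup (Fin 6) K} (hA : Good (n := 4) A.1) :
    ∃ a ∈ SP K Pm, ∃ l ∈ SP K PL, ∃ b ∈ SP K Pp, φ A = a * l * b := by
  obtain ⟨L, hL, S, U, hU, e⟩ := exists_dec hA
  refine ⟨φ L, map_closure_le rt5.1 hφ ?_ hL, φ (embf K (sh 4) S), embf_mem rt5.1 hφ mid5 S, φ U,
    map_closure_le rt5.1 hφ ?_ hU, by rw [e, map_mul, map_mul]⟩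
  · rintro x ⟨a, c, h, t, hc, rfl⟩
    exact ⟨_, _, h, t, low5 a c h hc, rfl⟩
  · rintro x ⟨a, c, h, t, hc, rfl⟩
    exact ⟨_, _, h, t, up5 a c h hc, rfl⟩

theorem cell4 {φ : Matrix.SpecialLinearGroup (Fin 5) K →* ↥(chevE6.group K)} (hφ : IsBlk a4 φ)
    {A : Matrix.SpecialLinearGroup (Fin 5) K} (hA : Good (n := 3) A.1) :
    ∃ a ∈ SP K Pm, ∃ l ∈ SP K PL, ∃ b ∈ SP K Pp, φ A = a * l * b := by
  obtain ⟨L, hL, S, U, hU, e⟩ := exists_dec hA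
  refine ⟨φ L, map_closure_le rt4.1 hφ ?_ hL, φ (embf K (sh 3) S), embf_mem rt4.1 hφ mid4 S, φ U,
    map_closure_le rt4.1 hφ ?_ hU, by rw [e, map_mul, map_mul]⟩
  · rintro x ⟨a, c, h, t, hc, rfl⟩
    exact ⟨_, _, h, t, low4 a c h hc, rfl⟩
  · rintro x ⟨a, c, h, t, hc, rfl⟩
    exact ⟨_, _, h, t, up4 a c h hc, rfl⟩

end Cfsg.Agent.H143.Pw.ESix
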