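import Mathlib

/-!
Linear algebra for the corner (S2465, exceptional rows over the fields of two and three elements).

* `exists_pair` : an endomorphism `N` of a space of dimension at least four such that `N - λ` has rank at least two for
  all `λ` has two vectors `w₁`, `w₂` with `w₁, w₂, N w₁, N w₂` linearly independent;
* `exists_SL` : a linearly independent family is the image of the first basis vectors under a matrix of determinant one.
-/

set_option autoImplicit false

namespace Cfsg.Agent.H143.Pw.Lin

open Module

universe u v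

section

variable {F : Type u} [Field F] {V : Type v} [AddCommGroup V] [Module F V]

theorem exists_not_mem_two {A B : Submodule F V} (hA : A ≠ ⊤) (hB : B ≠ ⊤) : ∃ x, x ∉ A ∧ x ∉ B := by
  by_contra hcon
  push Not at hcon
  have hA' : ∃ a, a ∉ A := by
    by_contra h
    push Not at h
    exact hA (eq_top_iff.2 fun x _ => h x)
  have hB' : ∃ b, b ∉ B := by
    by_contra h
    push Not at h
    exact hB (eq_top_iff.2 fun x _ => h x)
  obtain ⟨a, ha⟩ := hA'
  obtain ⟨b, hb⟩ := hB'
  have hab := hcon a ha
  have hbA : b ∈ A := by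
    by_contra h
    exact hb (hcon b h)
  have h1 : a + b ∉ A := fun h => ha (by simpa using A.sub_mem h hbA)
  have h2 := hcon _ h1
  exact hb (by simpa using B.sub_mem h2 hab)

variable [FiniteDimensional F V]

theorem exists_pair (N : V →ₗ[F] V) (hd : 4 ≤ finrank F V)
    (h : ∀ c : F, 2 ≤ finrank F (LinearMap.range (N - c • LinearMap.id))) :
    ∃ w₁ w₂ : V, LinearIndependent F ![w₁, w₂, N w₁, N w₂] := by
  -- a non-eigenvector
  have h1 : ∃ w₁ : V, LinearIndependent F ![w₁, N w₁] := by
    by_contra hcon
    push Not at hcon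
    obtain ⟨c, hc⟩ := LinearMap.exists_eq_smul_id_of_forall_notLinearIndependent hcon
    have := h c
    have h0 : N - c • LinearMap.id = 0 := by rw [hc]; exact sub_self _
    rw [h0, LinearMap.range_zero, finrank_bot] at this
    omega
  obtain ⟨w₁, hw₁⟩ := h1
  set E : Submodule F V := Submodule.span F {w₁, N w₁} with hE
  have hE2 : finrank F E = 2 := by
    have h2 := finrank_span_eq_card hw₁
    have h3 : Set.range ![w₁, N w₁] = {w₁, N w₁} := by
      ext x
      simp only [Matrix.range_cons, Matrix.range_empty, Set.union_empty, Set.mem_union, Set.mem_singleton_iff,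
        Set.mem_insert_iff]
    rw [h3] at h2
    simpa [hE] using h2
  by_cases hgen : ∃ w₂, LinearIndependent F ![E.mkQ w₂, E.mkQ (N w₂)]
  · obtain ⟨w₂, hw₂⟩ := hgen
    refine ⟨w₁, w₂, ?_⟩
    rw [Fintype.linearIndependent_iff] at hw₂ ⊢
    intro g hg
    rw [Fin.sum_univ_four] at hg
    simp only [Matrix.cons_val_zero, Matrix.cons_val_one, Matrix.cons_val] at hg
    have e1 := congrArg E.mkQ hg
    have m1 : E.mkQ w₁ = 0 := by
      rw [Submodule.mkQ_apply, Submodule.Quotient.mk_eq_zero]
      exact Submodule.subset_span (by simp)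
    have m2 : E.mkQ (N w₁) = 0 := by
      rw [Submodule.mkQ_apply, Submodule.Quotient.mk_eq_zero]
      exact Submodule.subset_span (by simp)
    rw [map_add, map_add, map_add, map_smul, map_smul, map_smul, map_smul, m1, m2, map_zero, smul_zero, smul_zero,
      zero_add, add_zero] at e1
    have h4 := hw₂ ![g 1, g 3] (by rw [Fin.sum_univ_two]; simpa using e1)
    have g1 : g 1 = 0 := h4 0
    have g3 : g 3 = 0 := h4 1
    rw [g1, g3, zero_smul, zero_smul, add_zero, add_zero] at hg
    rw [Fintype.linearIndependent_iff] at hw₁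
    have h5 := hw₁ ![g 0, g 2] (by rw [Fin.sum_univ_two]; simpa using hg)
    have g0 : g 0 = 0 := h5 0
    have g2 : g 2 = 0 := h5 1
    intro i
    fin_cases i
    · exact g0
    · exact g1
    · exact g2
    · exact g3
  · push Not at hgen
    -- `N` is `c` plus a map to `E`
    have key : ∃ c : F, ∀ x, E.mkQ (N x) = c • E.mkQ x := by
      have hq : 2 ≤ finrank F (V ⧸ E) := by
        have := Submodule.finrank_quotient_add_finrank E
        omega
      have hEinv : ∀ e ∈ E, E.mkQ (N e) = 0 := by
        intro e he
        -- a vector outside `E` and outside a line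
        by_contra hne
        have hq1 : ∃ x : V ⧸ E, x ∉ Submodule.span F {E.mkQ (N e)} := by
          by_contra hc
          push Not at hc
          have h2 : Submodule.span F {E.mkQ (N e)} = ⊤ := eq_top_iff.2 fun x _ => hc x
          have h3 := finrank_span_singleton (K := F) hne
          rw [h2, finrank_top] at h3
          omega
        obtain ⟨x, hx⟩ := hq1
        obtain ⟨w, rfl⟩ := E.mkQ_surjective x
        have hw0 : E.mkQ w ≠ 0 := fun h0 => hx (by rw [h0]; exact zero_mem _)
        have a1 : ∃ c : F, E.mkQ (N w) = c • E.mkQ w := by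
          have h2 := hgen w
          rw [LinearIndependent.pair_iff] at h2
          push Not at h2
          obtain ⟨s, t, hst, hne0⟩ := h2
          have ht : t ≠ 0 := by
            rintro rfl
            rw [zero_smul, add_zero] at hst
            rcases smul_eq_zero.1 hst with h3 | h3
            · exact hne0 h3 rfl
            · exact hw0 h3
          refine ⟨-(t⁻¹ * s), ?_⟩
          have h3 : t • E.mkQ (N w) = -(s • E.mkQ w) := by rw [eq_neg_iff_add_eq_zero, add_comm]; exact hst
          calc E.mkQ (N w) = t⁻¹ • t • E.mkQ (N w) := by rw [smul_smul, inv_mul_cancel₀ ht, one_smul]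
            _ = _ := by rw [h3, smul_neg, smul_smul, neg_smul]
        have a2 : ∃ c : F, E.mkQ (N (w + e)) = c • E.mkQ w := by
          have h2 := hgen (w + e)
          have he0 : E.mkQ e = 0 := by
            rw [Submodule.mkQ_apply, Submodule.Quotient.mk_eq_zero]; exact he
          have hwe : E.mkQ (w + e) = E.mkQ w := by rw [map_add, he0, add_zero]
          rw [hwe, LinearIndependent.pair_iff] at h2
          push Not at h2
          obtain ⟨s, t, hst, hne0⟩ := h2
          have ht : t ≠ 0 := by
            rintro rfl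
            rw [zero_smul, add_zero] at hst
            rcases smul_eq_zero.1 hst with h3 | h3
            · exact hne0 h3 rfl
            · exact hw0 h3
          refine ⟨-(t⁻¹ * s), ?_⟩
          have h3 : t • E.mkQ (N (w + e)) = -(s • E.mkQ w) := by
            rw [eq_neg_iff_add_eq_zero, add_comm]; exact hst
          calc E.mkQ (N (w + e)) = t⁻¹ • t • E.mkQ (N (w + e)) := by rw [smul_smul, inv_mul_cancel₀ ht, one_smul]
            _ = _ := by rw [h3, smul_neg, smul_smul, neg_smul]
        obtain ⟨c₁, h1⟩ := a1
        obtain ⟨c₂, h2⟩ := a2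
        rw [map_add, map_add, h1] at h2
        have h3 : E.mkQ (N e) = (c₂ - c₁) • E.mkQ w := by
          rw [sub_smul, ← h2, add_sub_cancel_left]
        have hc : c₂ - c₁ ≠ 0 := by
          intro h0
          rw [h0, zero_smul] at h3
          exact hne h3
        refine hx ?_
        rw [h3]
        have : E.mkQ w = (c₂ - c₁)⁻¹ • (c₂ - c₁) • E.mkQ w := by
          rw [smul_smul, inv_mul_cancel₀ hc, one_smul]
        rw [this]
        refine Submodule.smul_mem _ _ ?_
        rw [← this]
        exact Submodule.mem_span_singleton_self _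
      let Nb : (V ⧸ E) →ₗ[F] (V ⧸ E) := E.mapQ E N (fun e he => by
        have := hEinv e he
        rwa [Submodule.mkQ_apply, Submodule.Quotient.mk_eq_zero] at this)
      have hNb : ∀ x, Nb (E.mkQ x) = E.mkQ (N x) := fun x => rfl
      have h2 : ∀ x : V ⧸ E, ¬ LinearIndependent F ![x, Nb x] := by
        intro x
        obtain ⟨w, rfl⟩ := E.mkQ_surjective x
        rw [hNb]
        exact hgen w
      obtain ⟨c, hc⟩ := LinearMap.exists_eq_smul_id_of_forall_notLinearIndependent h2
      exact ⟨c, fun x => by rw [← hNb, hc]; rfl⟩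
    obtain ⟨c, hc⟩ := key
    set R : V →ₗ[F] V := N - c • LinearMap.id with hR
    have hRx : ∀ x, R x = N x - c • x := fun x => rfl
    have hRE : LinearMap.range R ≤ E := by
      rintro _ ⟨x, rfl⟩
      rw [hRx, ← Submodule.Quotient.mk_eq_zero, ← Submodule.mkQ_apply, map_sub, hc, map_smul, sub_self]
    have hR2 : finrank F (LinearMap.range R) = 2 := by
      have h2 := Submodule.finrank_mono hRE
      have h3 := h c
      rw [hE2] at h2
      exact le_antisymm h2 h3
    have hker := LinearMap.finrank_range_add_finrank_ker R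
    -- first vector
    have hk : LinearMap.ker R ≠ ⊤ := by
      intro h2
      rw [h2, finrank_top] at hker
      omega
    have hr : LinearMap.range R ≠ ⊤ := by
      intro h2
      rw [h2, finrank_top] at hR2
      omega
    obtain ⟨u₁, hu1, hu1'⟩ := exists_not_mem_two hk hr
    have hk2 : LinearMap.ker R ⊔ Submodule.span F {u₁} ≠ ⊤ := by
      intro h2
      have h3 := Submodule.finrank_add_le_finrank_add_finrank (LinearMap.ker R) (Submodule.span F {u₁})
      rw [h2, finrank_top] at h3
      have h4 := finrank_span_le_card (R := F) ({u₁} : Set V)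
      simp at h4
      omega
    have hr2 : LinearMap.range R ⊔ Submodule.span F {u₁} ≠ ⊤ := by
      intro h2
      have h3 := Submodule.finrank_add_le_finrank_add_finrank (LinearMap.range R) (Submodule.span F {u₁})
      rw [h2, finrank_top] at h3
      have h4 := finrank_span_le_card (R := F) ({u₁} : Set V)
      simp at h4
      omega
    obtain ⟨u₂, hu2, hu2'⟩ := exists_not_mem_two hk2 hr2
    have hsep : ∀ A : Submodule F V, u₁ ∉ A → u₂ ∉ A ⊔ Submodule.span F {u₁} → ∀ a b : F, a • u₁ + b • u₂ ∈ A →
        a = 0 ∧ b = 0 := by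
      intro A hA1 hA2 a b hab
      have hb : b = 0 := by
        by_contra hb
        refine hA2 ?_
        have e : u₂ = b⁻¹ • (a • u₁ + b • u₂) + -(b⁻¹ * a) • u₁ := by
          rw [smul_add, smul_smul, smul_smul, inv_mul_cancel₀ hb, one_smul, neg_smul]
          abel
        rw [e]
        exact Submodule.add_mem_sup (A.smul_mem _ hab) (Submodule.smul_mem _ _ (Submodule.mem_span_singleton_self _))
      refine ⟨?_, hb⟩
      by_contra ha
      rw [hb, zero_smul, add_zero] at hab
      have := A.smul_mem a⁻¹ hab
      rw [smul_smul, inv_mul_cancel₀ ha, one_smul] at this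
      exact hA1 this
    refine ⟨u₁, u₂, ?_⟩
    rw [Fintype.linearIndependent_iff]
    intro g hg
    rw [Fin.sum_univ_four] at hg
    simp only [Matrix.cons_val_zero, Matrix.cons_val_one, Matrix.cons_val] at hg
    have hN : ∀ x, N x = R x + c • x := fun x => by rw [hRx, sub_add_cancel]
    rw [hN, hN] at hg
    have e1 : (g 0 + g 2 * c) • u₁ + (g 1 + g 3 * c) • u₂ = R (-(g 2 • u₁ + g 3 • u₂)) := by
      rw [map_neg, map_add, map_smul, map_smul, eq_neg_iff_add_eq_zero, ← hg, add_smul, add_smul, mul_smul, mul_smul,
        smul_add, smul_add]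
      abel
    obtain ⟨f0, f1⟩ := hsep _ hu1' hu2' (g 0 + g 2 * c) (g 1 + g 3 * c) (by rw [e1]; exact ⟨_, rfl⟩)
    rw [f0, f1, zero_smul, zero_smul, add_zero] at e1
    obtain ⟨g2, g3⟩ := hsep _ hu1 hu2 (g 2) (g 3) (by
      rw [LinearMap.mem_ker]
      have := e1.symm
      rw [map_neg, neg_eq_zero] at this
      exact this)
    rw [g2, zero_mul, add_zero] at f0
    rw [g3, zero_mul, add_zero] at f1
    intro i
    fin_cases i
    · exact f0
    · exact f1
    · exact g2
    · exact g3

end

section

variable {F : Type u} [Field F]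

theorem exists_basis_ext {V : Type*} [AddCommGroup V] [Module F V] [Module.Finite F V] {k m : ℕ}
    (hkm : k + m = finrank F V) (b : Fin k → V) (hb : LinearIndependent F b) :
    ∃ B : Basis (Fin k ⊕ Fin m) F V, ∀ i, B (Sum.inl i) = b i := by
  obtain ⟨W', hW'⟩ := Submodule.exists_isCompl (Submodule.span F (Set.range b))
  have h1 : finrank F (Submodule.span F (Set.range b)) = k := by
    rw [finrank_span_eq_card hb, Fintype.card_fin]
  have h2 := Submodule.finrank_add_eq_of_isCompl hW'
  have h3 : finrank F W' = m := by omega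
  refine ⟨((Basis.span hb).prod (Module.finBasisOfFinrankEq F W' h3)).map
    (Submodule.prodEquivOfIsCompl _ W' hW'), fun i => ?_⟩
  rw [Basis.map_apply, Submodule.coe_prodEquivOfIsCompl', Basis.prod_apply_inl_fst, Basis.prod_apply_inl_snd,
    Basis.span_apply]
  simp

/-- a linearly independent family is the image of the first basis vectors under a matrix of determinant one -/
theorem exists_SL {k d : ℕ} {w : Fin k → (Fin (k + (d + 1)) → F)} (hw : LinearIndependent F w) :
    ∃ P : Matrix.SpecialLinearGroup (Fin (k + (d + 1))) F,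
      ∀ (i : Fin k) (j : Fin (k + (d + 1))), P.1 j (Fin.castAdd (d + 1) i) = w i j := by
  obtain ⟨B, hB⟩ := exists_basis_ext (m := d + 1) (by simp) w hw
  let B' : Basis (Fin (k + (d + 1))) F (Fin (k + (d + 1)) → F) := B.reindex finSumFinEquiv
  have hB' : ∀ i, B' (Fin.castAdd (d + 1) i) = w i := fun i => by
    rw [Basis.reindex_apply, finSumFinEquiv_symm_apply_castAdd, hB]
  let Q : Matrix (Fin (k + (d + 1))) (Fin (k + (d + 1))) F := Matrix.of fun j i => B' i j
  have hQ : Q = (Pi.basisFun F _).toMatrix B' := by
    ext i j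
    simp [Q, Basis.toMatrix_apply]
  have hdet : Q.det ≠ 0 := by
    intro h0
    have h1 := Basis.toMatrix_mul_toMatrix_flip (Pi.basisFun F (Fin (k + (d + 1)))) B'
    have h2 := congrArg Matrix.det h1
    rw [Matrix.det_mul, ← hQ, h0, zero_mul, Matrix.det_one] at h2
    exact zero_ne_one h2
  refine ⟨⟨Q.updateCol (Fin.last (k + d)) (Q.det⁻¹ • Q.col (Fin.last (k + d))), ?_⟩, fun i j => ?_⟩
  · rw [Matrix.det_updateCol_smul]
    have : Q.updateCol (Fin.last (k + d)) (Q.col (Fin.last (k + d))) = Q := Matrix.updateCol_eq_self _ _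
    rw [this, inv_mul_cancel₀ hdet]
  · have hne : Fin.castAdd (d + 1) i ≠ Fin.last (k + d) := by
      intro h
      have := congrArg Fin.val h
      simp at this
      omega
    change Q.updateCol _ _ j (Fin.castAdd (d + 1) i) = _
    rw [Matrix.updateCol_ne hne]
    change B' (Fin.castAdd (d + 1) i) j = _
    rw [hB']

end

end Cfsg.Agent.H143.Pw.Lin
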